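import Cfsg.Agent.Lib.Char.SemiSpectrum
import Cfsg.Agent.Lib.Char.FibrePower

/-!
# Element orders of a matrix group extended by its natural module
-/

set_option autoImplicit false
set_option linter.style.haveILetI false
set_option linter.unusedSectionVars false

namespace CfsgLib.Char.SpFourSpec

open Matrix Polynomial

universe u v

variable {K : Type u} [Field K] {ι : Type v} [Fintype ι] [DecidableEq ι]

/-- A matrix group acts on column vectors. -/
scoped instance unitsVecAction (H : Subgroup (Matrix ι ι K)ˣ) : DistribMulAction ↥H (ι → K) where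
  smul c v := (c : (Matrix ι ι K)ˣ).val *ᵥ v
  one_smul v := Matrix.one_mulVec v
  mul_smul c d v := (Matrix.mulVec_mulVec v (c : (Matrix ι ι K)ˣ).val (d : (Matrix ι ι K)ˣ).val).symm
  smul_zero c := Matrix.mulVec_zero _
  smul_add c v w := Matrix.mulVec_add _ v w

/-- The matrix of an element. -/
abbrev valOf {H : Subgroup (Matrix ι ι K)ˣ} (c : ↥H) : Matrix ι ι K := (c : (Matrix ι ι K)ˣ).val

variable {H : Subgroup (Matrix ι ι K)ˣ}

theorem smul_eq_mulVec (c : ↥H) (v : ι → K) : c • v = valOf c *ᵥ v := rfl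

theorem valOf_pow (c : ↥H) (n : ℕ) : valOf (c ^ n) = valOf c ^ n := by
  simp [valOf, Units.val_pow_eq_pow_val]

theorem sum_smul_eq (c : ↥H) (v : ι → K) (n : ℕ) :
    ∑ i ∈ Finset.range n, c ^ i • v = (∑ i ∈ Finset.range n, valOf c ^ i) *ᵥ v := by
  rw [Matrix.sum_mulVec]
  exact Finset.sum_congr rfl fun i _ => by rw [smul_eq_mulVec, valOf_pow]

/-- If the powers of the linear part sum to zero, no translation part survives. -/
theorem pow_eq_one_of_sum (c : ↥H) (v : ι → K) {n : ℕ} (hc : c ^ n = 1)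
    (hs : ∑ i ∈ Finset.range n, valOf c ^ i = 0) : semiPair v c ^ n = 1 := by
  rw [semiPair_pow, hc, sum_smul_eq, hs, Matrix.zero_mulVec]
  rfl

/-- A linear part without fixed vectors. -/
theorem pow_eq_one_of_free (c : ↥H) (v : ι → K) {n : ℕ} (hc : c ^ n = 1)
    (hfix : ∀ w : ι → K, valOf c *ᵥ w = w → w = 0) : semiPair v c ^ n = 1 := by
  refine pow_eq_one_of_sum c v hc (Matrix.ext_iff_mulVec.2 fun w => ?_)
  rw [Matrix.zero_mulVec]
  refine hfix _ ?_
  have h := congrArg (· *ᵥ w) (mul_geom_sum (valOf c) n)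
  simp only [← Matrix.mulVec_mulVec, Matrix.sub_mulVec, Matrix.one_mulVec] at h
  rw [← valOf_pow, hc] at h
  rw [← sub_eq_zero, h]
  simp [valOf]

variable (p : ℕ) [CharP K p]

theorem pow_mul_char (c : ↥H) (v : ι → K) {n : ℕ} (hc : c ^ n = 1) : semiPair v c ^ (n * p) = 1 := by
  rw [pow_mul, semiPair_pow, hc, semiPair_one_pow]
  have : p • (∑ i ∈ Finset.range n, c ^ i • v) = 0 := _root_.funext fun i => by
    rw [Pi.smul_apply, nsmul_eq_mul, CharP.cast_eq_zero, zero_mul]; rfl
  rw [this]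
  rfl

/-- The sum of the powers in characteristic `p`. -/
theorem geom_sum_eq_pow [Fact p.Prime] (M : Matrix ι ι K) :
    ∑ i ∈ Finset.range p, M ^ i = (M - 1) ^ (p - 1) := by
  have hp := (Fact.out : p.Prime)
  have h : (∑ i ∈ Finset.range p, (X : K[X]) ^ i) = (X - 1) ^ (p - 1) := by
    refine mul_right_cancel₀ (X_sub_C_ne_zero (1 : K)) ?_
    rw [C_1, geom_sum_mul, ← pow_succ, Nat.sub_add_cancel hp.one_le, sub_pow_char, one_pow]
  have h' := congrArg (aeval M) h
  simpa using h'

variable [Fact p.Prime] [Finite K]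

/-- A fixed vector multiplies the order by the characteristic. -/
theorem dvd_orderOf_of_fixed (c : ↥H) {v : ι → K} (hv : v ≠ 0) (hfix : valOf c *ᵥ v = v) {n : ℕ}
    (hn : n ∣ orderOf c) (hcop : ¬ p ∣ orderOf c) : n * p ∣ orderOf (semiPair v c) := by
  rw [orderOf_semiPair]
  refine mul_dvd_mul hn ?_
  have hfix' : ∀ i, c ^ i • v = v := fun i => by
    induction i with
    | zero => rw [pow_zero, one_smul]
    | succ i ih => rw [pow_succ, mul_smul, smul_eq_mulVec c v, hfix, ih]
  rw [Finset.sum_congr rfl fun i _ => hfix' i, Finset.sum_const, Finset.card_range]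
  haveI := Fact.mk (Fact.out : p.Prime)
  have hw : orderOf c • v ≠ 0 := fun h => hv (_root_.funext fun i => by
    have := congrFun h i
    rw [Pi.smul_apply, nsmul_eq_mul, Pi.zero_apply, mul_eq_zero, CharP.cast_eq_zero_iff K p] at this
    exact this.resolve_left hcop)
  refine (addOrderOf_eq_prime (_root_.funext fun i => ?_) hw).symm.dvd
  rw [Pi.smul_apply, nsmul_eq_mul, CharP.cast_eq_zero, zero_mul]
  rfl

theorem finite_semi : Finite (Semi ↥H (ι → K)) :=
  Finite.of_injective (fun x : Semi ↥H (ι → K) => (x.left.toAdd, x.right)) fun a b h => by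
    rw [semiPair_eta a, semiPair_eta b, (Prod.mk.inj h).1, (Prod.mk.inj h).2]

include p in
/-- The spectrum of the extension, with unboundedly many isospectral groups. -/
theorem exists_large_of_list [Nonempty ι] (L : List ℕ)
    (hup : ∀ (c : ↥H) (v : ι → K), ∃ n ∈ L, semiPair v c ^ n = 1)
    (hlow : ∀ n ∈ L, ∃ (c : ↥H) (v : ι → K), n ∣ orderOf (semiPair v c)) (N : ℕ) :
    ∃ (G : Type) (_ : Group G) (_ : Fintype G), N < Fintype.card G ∧
      Set.range (orderOf : G → ℕ) = {d | ∃ n ∈ L, d ∣ n} := by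
  haveI : Finite (Semi ↥H (ι → K)) := finite_semi
  set V : Subgroup (Semi ↥H (ι → K)) := (SemidirectProduct.rightHom).ker
  have hV : ∀ x ∈ V, x ^ p = 1 := fun x hx => by
    rw [MonoidHom.mem_ker] at hx
    rw [semiPair_eta x, show x.right = 1 from hx]
    simpa using pow_mul_char (H := H) p (1 : ↥H) x.left.toAdd (n := 1) (pow_one 1)
  have hne : V ≠ ⊥ := fun h => by
    have hmem : semiPair (fun _ => (1 : K)) (1 : ↥H) ∈ V := rfl
    rw [h, Subgroup.mem_bot] at hmem
    have := congrArg (fun x : Semi ↥H (ι → K) => x.left.toAdd (Classical.arbitrary ι)) hmem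
    exact one_ne_zero this
  obtain ⟨G, i, j, hN, hr⟩ := exists_large_isospectral (Fact.out : p.Prime) hV hne N
  refine ⟨G, i, j, hN, hr.trans (Set.ext fun d => ⟨?_, ?_⟩)⟩
  · rintro ⟨x, rfl⟩
    obtain ⟨n, hn, h⟩ := hup x.right x.left.toAdd
    rw [← semiPair_eta x] at h
    exact ⟨n, hn, orderOf_dvd_of_pow_eq_one h⟩
  · rintro ⟨n, hn, hd⟩
    obtain ⟨c, v, h⟩ := hlow n hn
    exact ⟨_, orderOf_pow_orderOf_div (orderOf_pos _).ne' (hd.trans h)⟩

end CfsgLib.Char.SpFourSpec
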