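import Cfsg.Agent.Lib.Char.SpFourSpec.TwistedTensor
import Cfsg.Agent.Lib.Classical.PSL2Spectrum

/-!
# Characteristic two and characteristic at least five
-/

set_option autoImplicit false
set_option linter.style.haveILetI false
set_option linter.unusedSectionVars false

namespace CfsgLib.Char.SpFourSpec

open Matrix
open scoped Kronecker

universe u

variable {K : Type u} [Field K]

local notation "SL" => Matrix.SpecialLinearGroup (Fin 2) K
local notation "M4" => Matrix (Fin 2 × Fin 2) (Fin 2 × Fin 2) K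

/-- A diagonal matrix of determinant one. -/
def diaSL (a : Kˣ) : SL := ⟨!![(a : K), 0; 0, ((a⁻¹ : Kˣ) : K)], by simp [Matrix.det_fin_two]⟩

theorem diaSL_val (a : Kˣ) : (diaSL a).1 = !![(a : K), 0; 0, ((a⁻¹ : Kˣ) : K)] := rfl

/-- The diagonal matrices as a homomorphism. -/
def dia : Kˣ →* SL where
  toFun := diaSL
  map_one' := Subtype.ext (by simp [diaSL_val, Matrix.one_fin_two])
  map_mul' a b := Subtype.ext (by
    rw [Matrix.SpecialLinearGroup.coe_mul, diaSL_val, diaSL_val, diaSL_val]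
    simp [mul_comm (a : K)⁻¹])

theorem dia_val (a : Kˣ) : (dia a).1 = !![(a : K), 0; 0, ((a⁻¹ : Kˣ) : K)] := rfl

theorem dia_pm {a : Kˣ} (h : (dia a).1 = 1 ∨ (dia a).1 = -1) : (a : K) = 1 ∨ (a : K) = -1 := by
  rcases h with h | h
  · left; simpa [dia_val] using congrFun (congrFun h 0) 0
  · right; simpa [dia_val] using congrFun (congrFun h 0) 0

theorem sum_range_two_mul {R : Type*} [Semiring R] (M : R) :
    ∀ n, ∑ i ∈ Finset.range (2 * n), M ^ i = (∑ i ∈ Finset.range n, (M ^ 2) ^ i) * (1 + M)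
  | 0 => by simp
  | n + 1 => by
    rw [show 2 * (n + 1) = 2 * n + 1 + 1 from rfl, Finset.sum_range_succ, Finset.sum_range_succ,
      sum_range_two_mul M n, Finset.sum_range_succ, add_mul, add_assoc, ← pow_mul, mul_add (M ^ (2 * n)),
      mul_one, ← pow_succ]

variable [Fintype K] {p f : ℕ} [Fact p.Prime] [CharP K p]

/-- The automorphism of order two. -/
abbrev frobHalf (K : Type u) [Field K] (p f : ℕ) [Fact p.Prime] [CharP K p] : K →+* K := iterateFrobenius K p f

theorem frobHalf_apply (x : K) : frobHalf K p f x = x ^ p ^ f := iterateFrobenius_def p f x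

theorem frobHalf_frobHalf (hK : Fintype.card K = (p ^ f) ^ 2) (x : K) :
    frobHalf K p f (frobHalf K p f x) = x := by
  rw [frobHalf_apply, frobHalf_apply, ← pow_mul, ← pow_two, ← hK, FiniteField.pow_card]

theorem frobHalf_trace (hK : Fintype.card K = (p ^ f) ^ 2) (g : SL) :
    frobHalf K p f (g * twistSL (frobHalf K p f) g).1.trace = (g * twistSL (frobHalf K p f) g).1.trace := by
  rw [Matrix.SpecialLinearGroup.coe_mul]
  show (frobHalf K p f).toAddMonoidHom (g.1 * g.1.map (frobHalf K p f)).trace = _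
  rw [AddMonoidHom.map_trace]
  show ((g.1 * g.1.map (frobHalf K p f)).map (frobHalf K p f)).trace = _
  rw [Matrix.map_mul, Matrix.map_map, show (frobHalf K p f) ∘ (frobHalf K p f) = id from
    funext (frobHalf_frobHalf hK), Matrix.map_id, Matrix.trace_mul_comm]
  rfl

theorem specList_mem_mid {k : ℕ} (hk : k = p ^ f - 1 ∨ k = p ^ f + 1) : k * p ∈ specList p (p ^ f) := by
  rcases hk with rfl | rfl <;> simp [specList, mul_comm]

theorem coprime_mid (hf : f ≠ 0) {k : ℕ} (hk : k = p ^ f - 1 ∨ k = p ^ f + 1) : Nat.Coprime p k := by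
  have hp := (Fact.out : p.Prime)
  refine hp.coprime_iff_not_dvd.2 fun hpj => hp.one_lt.not_ge (Nat.le_of_dvd one_pos ?_)
  have hpf : p ∣ p ^ f := dvd_pow_self p hf
  rcases hk with rfl | rfl
  · have := Nat.dvd_sub hpf hpj
    rwa [Nat.sub_sub_self (Nat.one_le_pow _ _ hp.pos)] at this
  · have := Nat.dvd_sub hpj hpf
    rwa [Nat.add_sub_cancel_left] at this

/-- The bound for a linear part in the inner group. -/
theorem inner_up (hf : f ≠ 0) (hK : Fintype.card K = (p ^ f) ^ 2) (h3 : p ≠ 3) {H : Subgroup M4ˣ} (c : ↥H)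
    (g : SL) (hcg : (c : M4ˣ) = twist (frobHalf K p f) g) (v : Fin 2 × Fin 2 → K) :
    ∃ n ∈ specList p (p ^ f), semiPair v c ^ n = 1 := by
  have hp := (Fact.out : p.Prime)
  have hpow : ∀ n, (g.1 ^ n = 1 ∨ g.1 ^ n = -1) → c ^ n = 1 := fun n h =>
    Subtype.ext (by rw [Subgroup.coe_pow, hcg, twist_pow_eq_one h]; rfl)
  obtain ⟨l, hl, el⟩ := exists_sl_root g
  haveI : CharP (AlgebraicClosure K) p := charP_of_injective_algebraMap (algebraMap K _).injective p
  have hq2 : 2 ≤ p ^ f := le_trans hp.two_le (Nat.le_self_pow hf p)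
  by_cases hl2 : l = 1 ∨ l = -1
  · have hg := sl_pow_char (p := p) g el hl2
    rcases eq_or_ne p 2 with rfl | h2
    · exact ⟨2 * 2, by simp [specList], pow_mul_char 2 c v (hpow 2 hg)⟩
    · have hp5 : 5 ≤ p := by
        have := hp.two_le
        rcases lt_or_ge p 5 with h | h
        · interval_cases p
          · exact absurd rfl h2
          · exact absurd rfl h3
          · norm_num at hp
        · exact h
      refine ⟨p, by simp [specList, show ¬p ≤ 3 by omega], pow_eq_one_of_sum c v (hpow p hg) ?_⟩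
      obtain ⟨a, ha, hn⟩ := sl_sq_zero g el hl2
      have hcube := twist_sub_one_cube (σ := frobHalf K p f) g ha hn
      rw [geom_sum_eq_pow, show p - 1 = 3 + (p - 4) by omega, pow_add, show valOf c = (twist (frobHalf K p f) g).val by
        rw [← hcg], hcube, zero_mul]
  by_cases ht : frobHalf K p f g.1.trace = g.1.trace
  · have hy : (l + l⁻¹) ^ p ^ f = l + l⁻¹ := by rw [el, ← map_pow, ← frobHalf_apply, ht]
    rcases pow_eq_one_of_fixed p hl hy with h | h
    · exact ⟨_, specList_mem_mid (Or.inl rfl),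
        pow_mul_char p c v (hpow _ (sl_pow_distinct p g hl el hl2 (by omega) (Or.inl h)))⟩
    · exact ⟨_, specList_mem_mid (Or.inr rfl),
        pow_mul_char p c v (hpow _ (sl_pow_distinct p g hl el hl2 (by omega) (Or.inl h)))⟩
  · have hQ : (p ^ f) ^ 2 = p ^ (f * 2) := (pow_mul p f 2).symm
    have hy : (l + l⁻¹) ^ p ^ (f * 2) = l + l⁻¹ := by rw [el, ← hQ, ← hK, ← map_pow, FiniteField.pow_card]
    have hd := halfOf_dvd (f := f) hp
    have hQ4 : 4 ≤ (p ^ f) ^ 2 := by nlinarith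
    have fin : ∀ n, halfOf p ∣ n → 2 ≤ n → l ^ n = 1 → semiPair v c ^ (n / halfOf p) = 1 := by
      intro n hn hn0 h1
      have hk : 0 < n / halfOf p := by
        rcases halfOf_cases hp with ⟨-, e⟩ | ⟨-, e⟩ <;> rw [e] <;> omega
      refine pow_eq_one_of_free c v (hpow _ (sl_pow_distinct p g hl el hl2 hk (pm_of_dvd hn h1))) fun w hw => ?_
      by_contra hw0
      rw [show valOf c = (twist (frobHalf K p f) g).val by rw [← hcg]] at hw
      exact ht (twist_fixed_trace g hw0 hw)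
    rcases pow_eq_one_of_fixed p hl hy with h | h <;> rw [← hQ] at h
    · exact ⟨((p ^ f) ^ 2 - 1) / halfOf p, by simp [specList], fin _ hd.2 (by omega) h⟩
    · exact ⟨((p ^ f) ^ 2 + 1) / halfOf p, by simp [specList], fin _ hd.1 (by omega) h⟩

/-- The bound for a linear part outside the inner group. -/
theorem outer_up (hf : f ≠ 0) (hK : Fintype.card K = (p ^ f) ^ 2) (hp5 : 5 ≤ p) {H : Subgroup M4ˣ} (c : ↥H)
    (g : SL) (hcg : (c : M4ˣ) = twist (frobHalf K p f) g * flipUnit) (v : Fin 2 × Fin 2 → K) :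
    ∃ n ∈ specList p (p ^ f), semiPair v c ^ n = 1 := by
  have hp := (Fact.out : p.Prime)
  set N := g * twistSL (frobHalf K p f) g
  have hc2 : ((c ^ 2 : ↥H) : M4ˣ) = twist (frobHalf K p f) N := by
    rw [Subgroup.coe_pow, hcg, twist_sq_flip (frobHalf_frobHalf hK)]
  have hpow : ∀ n, (N.1 ^ n = 1 ∨ N.1 ^ n = -1) → c ^ (2 * n) = 1 := fun n h =>
    Subtype.ext (by rw [pow_mul, Subgroup.coe_pow, hc2, twist_pow_eq_one h]; rfl)
  obtain ⟨l, hl, el⟩ := exists_sl_root N
  haveI : CharP (AlgebraicClosure K) p := charP_of_injective_algebraMap (algebraMap K _).injective p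
  have hq2 : 5 ≤ p ^ f := le_trans hp5 (Nat.le_self_pow hf p)
  have hodd : (p ^ f) % 2 = 1 := by rw [Nat.pow_mod, hp.eq_two_or_odd.resolve_left (by omega)]; simp
  have hhalf : halfOf p = 2 := if_neg (by omega)
  by_cases hl2 : l = 1 ∨ l = -1
  · refine ⟨p * (p ^ f - 1), by simp [specList], ?_⟩
    have h2p : semiPair v c ^ (2 * p) = 1 := by
      refine pow_eq_one_of_sum c v (hpow p (sl_pow_char N el hl2)) ?_
      obtain ⟨a, ha, hn⟩ := sl_sq_zero N el hl2
      have hcube := twist_sub_one_cube (σ := frobHalf K p f) N ha hn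
      have hv2 : valOf c ^ 2 = (twist (frobHalf K p f) N).val := by rw [← valOf_pow, valOf, hc2]
      rw [sum_range_two_mul, hv2, geom_sum_eq_pow, show p - 1 = 3 + (p - 4) by omega, pow_add, hcube, zero_mul,
        zero_mul]
    obtain ⟨j, hj⟩ : 2 ∣ p ^ f - 1 := by omega
    rw [hj, ← mul_assoc, mul_comm p 2, pow_mul, h2p, one_pow]
  · have hy : (l + l⁻¹) ^ p ^ f = l + l⁻¹ := by rw [el, ← map_pow, ← frobHalf_apply, frobHalf_trace hK]
    have fin : ∀ k, (k = p ^ f - 1 ∨ k = p ^ f + 1) → l ^ k = 1 → semiPair v c ^ (k * p) = 1 := by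
      intro k hk h
      have h2k : 2 ∣ k := by rcases hk with rfl | rfl <;> omega
      have hk0 : 0 < k / 2 := by rcases hk with rfl | rfl <;> omega
      have := hpow _ (sl_pow_distinct p N hl el hl2 hk0 (hhalf ▸ pm_of_dvd (p := p) (hhalf.symm ▸ h2k) h))
      rw [Nat.mul_div_cancel' h2k] at this
      exact pow_mul_char p c v this
    rcases pow_eq_one_of_fixed p hl hy with h | h
    · exact ⟨_, specList_mem_mid (Or.inl rfl), fin _ (Or.inl rfl) h⟩
    · exact ⟨_, specList_mem_mid (Or.inr rfl), fin _ (Or.inr rfl) h⟩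

theorem dvd_of_sl_pm {A : SL} {n j : ℕ} (hj : orderOf A = halfOf p * j) (h : (A ^ n).1 = 1 ∨ (A ^ n).1 = -1) :
    j ∣ n := by
  rcases halfOf_cases (Fact.out : p.Prime) with ⟨hp, hh⟩ | ⟨-, hh⟩ <;> rw [hh] at hj
  · rw [one_mul] at hj
    refine hj ▸ orderOf_dvd_of_pow_eq_one (Subtype.ext (h.elim id fun e => e.trans ?_))
    subst hp
    exact Matrix.ext fun i k => by rw [Matrix.neg_apply, CharTwo.neg_eq]; rfl
  · refine Nat.dvd_of_mul_dvd_mul_left two_pos (hj ▸ orderOf_dvd_of_pow_eq_one (Subtype.ext ?_))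
    rw [two_mul, pow_add, Matrix.SpecialLinearGroup.coe_mul]
    rcases h with e | e <;> rw [e] <;> simp

theorem exists_unit_order {d : ℕ} (hd : d ∣ Fintype.card K - 1) : ∃ a : Kˣ, orderOf a = d := by
  classical
  obtain ⟨u, hu⟩ := IsCyclic.exists_generator (α := Kˣ)
  have ho : orderOf u = Fintype.card K - 1 := by
    rw [orderOf_eq_card_of_forall_mem_zpowers hu, Nat.card_units, Nat.card_eq_fintype_card]
  exact ⟨_, orderOf_pow_orderOf_div (orderOf_pos u).ne' (ho ▸ hd)⟩

/-- Both tori of a subgroup containing the inner group. -/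
theorem torus_low (hK : Fintype.card K = (p ^ f) ^ 2) {H : Subgroup M4ˣ}
    (hH : ∀ g, twist (frobHalf K p f) g ∈ H) {n : ℕ}
    (hn : n = ((p ^ f) ^ 2 + 1) / halfOf p ∨ n = ((p ^ f) ^ 2 - 1) / halfOf p) :
    ∃ (c : ↥H) (v : Fin 2 × Fin 2 → K), n ∣ orderOf (semiPair v c) := by
  classical
  have hd := halfOf_dvd (f := f) (Fact.out : p.Prime)
  obtain ⟨A, hA⟩ : ∃ A : SL, orderOf A = halfOf p * n := by
    rcases hn with rfl | rfl
    · rw [Nat.mul_div_cancel' hd.1, ← hK]
      exact CfsgLib.Classical.PSL2Spectrum.exists_order_add_one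
    · rw [Nat.mul_div_cancel' hd.2, ← hK]
      exact CfsgLib.Classical.PSL2Spectrum.exists_order_sub_one
  refine ⟨⟨_, hH A⟩, 0, dvd_trans ?_ (orderOf_map_dvd SemidirectProduct.rightHom _)⟩
  set c : ↥H := ⟨_, hH A⟩
  show n ∣ orderOf c
  refine dvd_of_sl_pm hA (twist_eq_one (σ := frobHalf K p f) ?_)
  rw [map_pow]
  exact congrArg Subtype.val (pow_orderOf_eq_one c)

theorem mid_dvd (hK : Fintype.card K = (p ^ f) ^ 2) {k : ℕ} (hk : k = p ^ f - 1 ∨ k = p ^ f + 1) :
    k ∣ Fintype.card K - 1 ∧ (p ≠ 2 → 2 * k ∣ Fintype.card K - 1) := by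
  have hfac : (p ^ f) ^ 2 - 1 = (p ^ f + 1) * (p ^ f - 1) := by simpa using Nat.sq_sub_sq (p ^ f) 1
  rw [hK, hfac]
  refine ⟨?_, fun h2 => ?_⟩
  · rcases hk with rfl | rfl
    · exact dvd_mul_left _ _
    · exact dvd_mul_right _ _
  · have hodd : (p ^ f) % 2 = 1 := by
      rw [Nat.pow_mod, (Fact.out : p.Prime).eq_two_or_odd.resolve_left h2]; simp
    rcases hk with rfl | rfl
    · exact mul_dvd_mul_right (by omega) _
    · rw [mul_comm 2]; exact mul_dvd_mul_left _ (by omega)

theorem low_two_torus (hp : p = 2) (hf : f ≠ 0) (hK : Fintype.card K = (p ^ f) ^ 2) {k : ℕ}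
    (hk : k = p ^ f - 1 ∨ k = p ^ f + 1) :
    ∃ (c : ↥(innerGroup (frobHalf K p f))) (v : Fin 2 × Fin 2 → K), k * p ∣ orderOf (semiPair v c) := by
  obtain ⟨a, ha⟩ := exists_unit_order (mid_dvd hK hk).1
  let c : ↥(innerGroup (frobHalf K p f)) := ⟨_, dia a, rfl⟩
  have hneg : (-1 : K) = 1 := by subst hp; exact CharTwo.neg_eq 1
  have hc : orderOf c = k := by
    refine Nat.dvd_antisymm (orderOf_dvd_of_pow_eq_one (Subtype.ext ?_)) ?_
    · show twist (frobHalf K p f) (dia a) ^ k = 1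
      rw [← map_pow, ← map_pow, ← ha, pow_orderOf_eq_one, map_one, map_one]
    · rw [← ha]
      refine orderOf_dvd_of_pow_eq_one (Units.ext ?_)
      have h1 : twist (frobHalf K p f) (dia (a ^ orderOf c)) = 1 := by
        rw [map_pow, map_pow]; exact congrArg Subtype.val (pow_orderOf_eq_one c)
      rcases dia_pm (twist_eq_one h1) with h | h
      · exact h
      · exact h.trans hneg
  have hpk : ¬p ∣ orderOf c := hc ▸ (Fact.out : p.Prime).coprime_iff_not_dvd.1 (coprime_mid hf hk)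
  have hak : (a : K) ^ k = 1 := by rw [← Units.val_pow_eq_pow_val, ← ha, pow_orderOf_eq_one]; rfl
  rcases hk with rfl | rfl
  · refine ⟨c, Pi.single (0, 1) 1, dvd_orderOf_of_fixed p c (by simp) ?_ hc.symm.dvd hpk⟩
    funext ⟨i, j⟩
    have h1 : (a : K) * frobHalf K p f ((a⁻¹ : Kˣ) : K) = 1 := by
      rw [frobHalf_apply, Units.val_inv_eq_inv_val, inv_pow, ← div_eq_mul_inv, div_eq_one_iff_eq (pow_ne_zero _ a.ne_zero)]
      conv_rhs => rw [← Nat.sub_add_cancel (Nat.one_le_pow f p (Fact.out : p.Prime).pos), pow_succ, hak, one_mul]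
    show ((twist (frobHalf K p f) (dia a)).val *ᵥ Pi.single (0, 1) 1) (i, j) = _
    rw [Matrix.mulVec_single_one, Matrix.col_apply, twist_apply]
    fin_cases i <;> fin_cases j <;> simp [dia_val, h1]
    simpa using h1
  · refine ⟨c, Pi.single (0, 0) 1, dvd_orderOf_of_fixed p c (by simp) ?_ hc.symm.dvd hpk⟩
    funext ⟨i, j⟩
    have h1 : (a : K) * frobHalf K p f (a : K) = 1 := by rw [frobHalf_apply, ← pow_succ', hak]
    show ((twist (frobHalf K p f) (dia a)).val *ᵥ Pi.single (0, 0) 1) (i, j) = _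
    rw [Matrix.mulVec_single_one, Matrix.col_apply, twist_apply]
    fin_cases i <;> fin_cases j <;> simp [dia_val, h1]

theorem low_two_four (hp : p = 2) :
    ∃ (c : ↥(innerGroup (frobHalf K p f))) (v : Fin 2 × Fin 2 → K), 4 ∣ orderOf (semiPair v c) := by
  subst hp
  let g : SL := ⟨!![1, 1; 0, 1], by simp [Matrix.det_fin_two]⟩
  let c : ↥(innerGroup (frobHalf K 2 f)) := ⟨_, g, rfl⟩
  refine ⟨c, Pi.single (1, 1) 1, ?_⟩
  have hcp : orderOf c = 2 := by
    refine orderOf_eq_prime (Subtype.ext (twist_pow_eq_one (Or.inl ?_))) fun h => ?_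
    · show (!![1, 1; 0, 1] : Matrix (Fin 2) (Fin 2) K) ^ 2 = 1
      ext i j
      fin_cases i <;> fin_cases j <;> simp [pow_two, Matrix.mul_apply, CharTwo.add_self_eq_zero]
    · rcases twist_eq_one (congrArg Subtype.val h : twist (frobHalf K 2 f) g = 1) with e | e <;>
        simpa [g] using congrFun (congrFun e 0) 1
  rw [orderOf_semiPair, hcp, show 4 = 2 * 2 from rfl]
  refine mul_dvd_mul_left 2 (addOrderOf_eq_prime (funext fun x => ?_) ?_).symm.dvd
  · rw [Pi.smul_apply, two_nsmul]; exact CharTwo.add_self_eq_zero _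
  · intro h
    have h00 := congrFun h (0, 0)
    rw [Finset.sum_range_succ, Finset.sum_range_one, pow_zero, pow_one, one_smul, smul_eq_mulVec] at h00
    rw [Pi.add_apply, show valOf c = (twist (frobHalf K 2 f) g).val from rfl, Matrix.mulVec_single_one,
      Matrix.col_apply, twist_apply] at h00
    simp [g] at h00

theorem low_odd_torus (hp5 : 5 ≤ p) (hf : f ≠ 0) (hK : Fintype.card K = (p ^ f) ^ 2) {k : ℕ}
    (hk : k = p ^ f - 1 ∨ k = p ^ f + 1) :
    ∃ (c : ↥(outerGroup (frobHalf K p f) (frobHalf_frobHalf hK))) (v : Fin 2 × Fin 2 → K),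
      k * p ∣ orderOf (semiPair v c) := by
  have hp := (Fact.out : p.Prime)
  obtain ⟨r, hr⟩ := exists_unit_order ((mid_dvd hK hk).2 (by omega))
  have hq : 5 ≤ p ^ f := le_trans hp5 (Nat.le_self_pow hf p)
  have hk0 : 0 < k := by rcases hk with rfl | rfl <;> omega
  have hrk : (r : K) ^ k = -1 := by
    have h1 : ((r : K) ^ k) ^ 2 = 1 := by
      rw [← pow_mul, mul_comm, ← hr, ← Units.val_pow_eq_pow_val, pow_orderOf_eq_one]; rfl
    refine (sq_eq_one_iff.1 h1).resolve_left fun h => ?_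
    have := Nat.le_of_dvd hk0 (hr ▸ orderOf_dvd_of_pow_eq_one (Units.ext (by simpa using h) : r ^ k = 1))
    omega
  have hodd : (p ^ f) % 2 = 1 := by rw [Nat.pow_mod, hp.eq_two_or_odd.resolve_left (by omega)]; simp
  have h2k : 2 ∣ k := by rcases hk with rfl | rfl <;> omega
  obtain ⟨g, v, e, hv, hfix, hsq, he⟩ : ∃ (g : SL) (v : Fin 2 × Fin 2 → K) (e : Kˣ), v ≠ 0 ∧
      ((twist (frobHalf K p f) g).val * flipMat) *ᵥ v = v ∧ g * twistSL (frobHalf K p f) g = dia e ∧
      ∀ j, ((e : K) ^ j = 1 ∨ (e : K) ^ j = -1) → r ^ (4 * j) = 1 := by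
    rcases hk with rfl | rfl
    · have hσ : frobHalf K p f (r : K) = -(r : K) := by
        rw [frobHalf_apply]
        conv_lhs => rw [← Nat.sub_add_cancel (show 1 ≤ p ^ f by omega), pow_succ, hrk, neg_one_mul]
      have hσ' : frobHalf K p f ((r⁻¹ : Kˣ) : K) = -((r⁻¹ : Kˣ) : K) := by
        rw [Units.val_inv_eq_inv_val, map_inv₀, hσ, inv_neg]
      refine ⟨dia r, fun x => if x.1 = x.2 then 0 else 1, -(r * r), fun h => by simpa using congrFun h (0, 1), ?_,
        ?_, fun j hj => Units.ext ?_⟩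
      · funext ⟨i, j⟩
        fin_cases i <;> fin_cases j <;>
          simp [Matrix.mulVec, dotProduct, Fintype.sum_prod_type, Fin.sum_univ_two, flipMat, Matrix.mul_apply,
            twist_apply, dia_val, hσ, hσ', map_inv₀]
      · refine Subtype.ext ?_
        ext i j
        fin_cases i <;> fin_cases j <;> simp [dia_val, twistSL, Matrix.mul_apply, Fin.sum_univ_two, hσ, hσ', map_inv₀]
      · have h2 : ((r : K) ^ (2 * j)) ^ 2 = 1 := by
          have : ((((-(r * r) : Kˣ)) : K) ^ j) ^ 2 = 1 := by rcases hj with h | h <;> rw [h] <;> ring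
          rw [← this, Units.val_neg, Units.val_mul, ← pow_mul, ← pow_mul, pow_mul' _ j 2, neg_sq, ← pow_two,
            ← pow_mul, ← pow_mul]
          ring_nf
        simpa [← pow_mul, show 2 * j * 2 = 4 * j by ring] using h2
    · have hσ : frobHalf K p f (r : K) = -((r⁻¹ : Kˣ) : K) := by
        rw [frobHalf_apply, Units.val_inv_eq_inv_val]
        have := hrk
        rw [pow_succ] at this
        field_simp
        linear_combination this
      have hσ' : frobHalf K p f ((r⁻¹ : Kˣ) : K) = -(r : K) := by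
        rw [Units.val_inv_eq_inv_val, map_inv₀, hσ, Units.val_inv_eq_inv_val, inv_neg, inv_inv]
      have hdet : (!![0, ((r⁻¹ : Kˣ) : K); -(r : K), 0] : Matrix (Fin 2) (Fin 2) K).det = 1 := by
        simp [Matrix.det_fin_two]
      obtain ⟨g₀, hg₀⟩ : ∃ g₀ : SL, g₀.1 = !![0, ((r⁻¹ : Kˣ) : K); -(r : K), 0] := ⟨⟨_, hdet⟩, rfl⟩
      have hval : ∀ x y, (twist (frobHalf K p f) g₀).val x y =
          !![0, ((r⁻¹ : Kˣ) : K); -(r : K), 0] x.1 y.1 *
            frobHalf K p f (!![0, ((r⁻¹ : Kˣ) : K); -(r : K), 0] x.2 y.2) := fun x y => by rw [twist_apply, hg₀]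
      refine ⟨g₀,
        fun x => if x.1 = x.2 then 1 else 0, r⁻¹ * r⁻¹, fun h => by simpa using congrFun h (0, 0), ?_,
        ?_, fun j hj => ?_⟩
      · funext ⟨i, j⟩
        fin_cases i <;> fin_cases j <;>
          simp [Matrix.mulVec, dotProduct, Fintype.sum_prod_type, Fin.sum_univ_two, flipMat, Matrix.mul_apply,
            hval, hσ, hσ', map_inv₀]
      · refine Subtype.ext ?_
        ext i j
        rw [Matrix.SpecialLinearGroup.coe_mul]
        fin_cases i <;> fin_cases j <;> simp [dia_val, twistSL, hg₀, Matrix.mul_apply, Fin.sum_univ_two, hσ, hσ', map_inv₀]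
      · have h2 : ((r⁻¹ * r⁻¹ : Kˣ) ^ j) ^ 2 = 1 := Units.ext (by
          rw [Units.val_pow_eq_pow_val, Units.val_pow_eq_pow_val]
          rcases hj with h | h <;> rw [h] <;> simp)
        rw [← pow_two, ← pow_mul, ← pow_mul, inv_pow, inv_eq_one] at h2
        rwa [show 4 * j = 2 * (j * 2) by ring]
  set c : ↥(outerGroup (frobHalf K p f) (frobHalf_frobHalf hK)) :=
    ⟨twist (frobHalf K p f) g * flipUnit, ⟨g, Or.inr rfl⟩⟩
  have hc2 : ∀ j, ((c : M4ˣ) ^ (2 * j)) = twist (frobHalf K p f) (dia (e ^ j)) := fun j => by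
    rw [pow_mul, show ((c : M4ˣ)) ^ 2 = twist (frobHalf K p f) (dia e) by
      rw [← hsq]; exact twist_sq_flip (frobHalf_frobHalf hK) g, ← map_pow, ← map_pow]
  have hdvd : k ∣ orderOf c := by
    have h1 : (c : M4ˣ) ^ orderOf c = 1 := congrArg Subtype.val (pow_orderOf_eq_one c)
    rcases Nat.even_or_odd' (orderOf c) with ⟨j, hj | hj⟩ <;> rw [hj] at h1 ⊢
    · rw [hc2] at h1
      have hpm := dia_pm (twist_eq_one h1)
      rw [Units.val_pow_eq_pow_val] at hpm
      have h4 : 2 * k ∣ 2 * (2 * j) := hr ▸ (show 2 * (2 * j) = 4 * j by ring) ▸ orderOf_dvd_of_pow_eq_one (he j hpm)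
      exact Nat.dvd_of_mul_dvd_mul_left two_pos h4
    · rw [pow_succ, hc2] at h1
      change twist (frobHalf K p f) (dia (e ^ j)) * (twist (frobHalf K p f) g * flipUnit) = 1 at h1
      rw [← mul_assoc, ← map_mul] at h1
      exact absurd ((eq_inv_of_mul_eq_one_left h1).trans (inv_eq_of_mul_eq_one_left flipUnit_sq))
        (twist_ne_flip _)
  refine ⟨c, v, dvd_orderOf_of_fixed p c hv hfix hdvd fun hpc => ?_⟩
  -- the order of `c` is prime to `p`
  obtain ⟨l, hl, el⟩ := exists_sl_root (g * twistSL (frobHalf K p f) g)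
  have hdiv : orderOf c ∣ 2 * ((p ^ f) ^ 2 - 1) := by
    refine orderOf_dvd_of_pow_eq_one (Subtype.ext ?_)
    rw [Subgroup.coe_pow, hc2, show e ^ ((p ^ f) ^ 2 - 1) = 1 from Units.ext (by
      rw [Units.val_pow_eq_pow_val, ← hK, FiniteField.pow_card_sub_one_eq_one _ e.ne_zero]; rfl), map_one, map_one]
    rfl
  have hcop : Nat.Coprime p (2 * ((p ^ f) ^ 2 - 1)) := by
    rw [show (p ^ f) ^ 2 - 1 = (p ^ f + 1) * (p ^ f - 1) by simpa using Nat.sq_sub_sq (p ^ f) 1]
    exact ((Nat.coprime_primes hp Nat.prime_two).2 (by omega)).mul_right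
      ((coprime_mid hf (Or.inr rfl)).mul_right (coprime_mid hf (Or.inl rfl)))
  exact hp.one_lt.ne' (Nat.eq_one_of_dvd_coprimes hcop dvd_rfl (hpc.trans hdiv))

theorem low_odd_char (hp5 : 5 ≤ p) {H : Subgroup M4ˣ} :
    ∃ (c : ↥H) (v : Fin 2 × Fin 2 → K), (if p ≤ 3 then p ^ 2 else p) ∣ orderOf (semiPair v c) := by
  refine ⟨1, fun _ => 1, ?_⟩
  rw [if_neg (by omega), orderOf_semiPair_one]
  refine (addOrderOf_eq_prime (funext fun i => ?_) fun h => one_ne_zero (congrFun h (0, 0))).symm.dvd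
  rw [Pi.smul_apply, nsmul_eq_mul, CharP.cast_eq_zero, zero_mul]
  rfl

theorem exists_large_two (hp : p = 2) (hf : f ≠ 0) (hK : Fintype.card K = (p ^ f) ^ 2) (N : ℕ) :
    ∃ (G : Type) (_ : Group G) (_ : Fintype G), N < Fintype.card G ∧
      Set.range (orderOf : G → ℕ) = {d | ∃ n ∈ specList p (p ^ f), d ∣ n} := by
  refine exists_large_of_list (H := innerGroup (frobHalf K p f)) p _ (fun c v => ?_) (fun n hn => ?_) N
  · obtain ⟨g, hg⟩ := c.2
    exact inner_up hf hK (by omega) c g hg.symm v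
  · simp only [specList, List.mem_cons, List.not_mem_nil, or_false] at hn
    rcases hn with rfl | rfl | rfl | rfl | rfl
    · exact torus_low hK (H := innerGroup (frobHalf K p f)) (fun g => ⟨g, rfl⟩) (Or.inl rfl)
    · exact torus_low hK (H := innerGroup (frobHalf K p f)) (fun g => ⟨g, rfl⟩) (Or.inr rfl)
    · rw [mul_comm]; exact low_two_torus hp hf hK (Or.inl rfl)
    · rw [mul_comm]; exact low_two_torus hp hf hK (Or.inr rfl)
    · subst hp
      exact low_two_four rfl

theorem exists_large_odd (hp5 : 5 ≤ p) (hf : f ≠ 0) (hK : Fintype.card K = (p ^ f) ^ 2) (N : ℕ) :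
    ∃ (G : Type) (_ : Group G) (_ : Fintype G), N < Fintype.card G ∧
      Set.range (orderOf : G → ℕ) = {d | ∃ n ∈ specList p (p ^ f), d ∣ n} := by
  refine exists_large_of_list (H := outerGroup (frobHalf K p f) (frobHalf_frobHalf hK)) p _ (fun c v => ?_)
    (fun n hn => ?_) N
  · obtain ⟨g, hg | hg⟩ := c.2
    · exact inner_up hf hK (by omega) c g hg v
    · exact outer_up hf hK hp5 c g hg v
  · simp only [specList, List.mem_cons, List.not_mem_nil, or_false] at hn
    rcases hn with rfl | rfl | rfl | rfl | rfl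
    · exact torus_low hK (H := outerGroup (frobHalf K p f) (frobHalf_frobHalf hK)) (fun g => ⟨g, Or.inl rfl⟩) (Or.inl rfl)
    · exact torus_low hK (H := outerGroup (frobHalf K p f) (frobHalf_frobHalf hK)) (fun g => ⟨g, Or.inl rfl⟩) (Or.inr rfl)
    · rw [mul_comm]; exact low_odd_torus hp5 hf hK (Or.inl rfl)
    · rw [mul_comm]; exact low_odd_torus hp5 hf hK (Or.inr rfl)
    · exact low_odd_char hp5

end CfsgLib.Char.SpFourSpec
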