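import Cfsg.Agent.Lib.Char.SpFourSpec.CasesSmall

/-!
# Characteristic three, even degree

Over a field with `q²` elements, `g` acts by `g^(q) ⊗ g^(3q) ⊗ g ⊗ g`.
-/

set_option autoImplicit false
set_option linter.style.haveILetI false
set_option linter.unusedSectionVars false

namespace CfsgLib.Char.SpFourSpec

open Matrix
open scoped Kronecker

universe u

theorem kron_left_quad {R : Type u} [Field R] {m n : Type*} [Fintype m] [DecidableEq m] [Fintype n] [DecidableEq n]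
    {M : Matrix m m R} {s : R} (h : M * M = s • M - 1) :
    (M ⊗ₖ (1 : Matrix n n R)) * (M ⊗ₖ (1 : Matrix n n R)) = s • (M ⊗ₖ (1 : Matrix n n R)) - 1 := by
  rw [← mul_kronecker_mul, h, one_mul]
  ext ⟨i, j⟩ ⟨k, l⟩
  by_cases h1 : i = k <;> by_cases h2 : j = l <;> simp [kronecker_apply, h1, h2, sub_mul, mul_assoc]

theorem kron_right_quad {R : Type u} [Field R] {m n : Type*} [Fintype m] [DecidableEq m] [Fintype n] [DecidableEq n]
    {M : Matrix n n R} {s : R} (h : M * M = s • M - 1) :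
    ((1 : Matrix m m R) ⊗ₖ M) * ((1 : Matrix m m R) ⊗ₖ M) = s • ((1 : Matrix m m R) ⊗ₖ M) - 1 := by
  rw [← mul_kronecker_mul, h, one_mul]
  ext ⟨i, j⟩ ⟨k, l⟩
  by_cases h1 : i = k <;> by_cases h2 : j = l <;> simp [kronecker_apply, h1, h2]

/-- An eigenvector of a quadratic operator inside an eigenspace of a commuting one. -/
theorem peel {R : Type u} [Field R] {n : Type*} [Fintype n] [DecidableEq n] {A T : Matrix n n R}
    (hAT : A * T = T * A) {l : R} (hl : l ≠ 0) (hA : A * A = (l + l⁻¹) • A - 1) {v : n → R} (hv : v ≠ 0) {c : R}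
    (hT : T *ᵥ v = c • v) :
    ∃ (w : n → R) (r : R), w ≠ 0 ∧ (r = l ∨ r = l⁻¹) ∧ A *ᵥ w = r • w ∧ T *ᵥ w = c • w := by
  by_cases h : A *ᵥ v = l • v
  · exact ⟨v, l, hv, Or.inl rfl, h, hT⟩
  · refine ⟨A *ᵥ v - l • v, l⁻¹, sub_ne_zero.2 h, Or.inr rfl, ?_, ?_⟩
    · rw [Matrix.mulVec_sub, Matrix.mulVec_smul, Matrix.mulVec_mulVec, hA, Matrix.sub_mulVec, Matrix.smul_mulVec,
        Matrix.one_mulVec, smul_sub, smul_smul, inv_mul_cancel₀ hl, one_smul]
      module
    · rw [Matrix.mulVec_sub, Matrix.mulVec_smul, Matrix.mulVec_mulVec, ← hAT, ← Matrix.mulVec_mulVec, hT,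
        Matrix.mulVec_smul, smul_sub, smul_comm l c]

theorem eigen_next {R : Type u} [Field R] {n : Type*} [Fintype n] [DecidableEq n] {A T : Matrix n n R}
    (hAT : A * T = T * A) {w : n → R} {r c : R} (hA : A *ᵥ w = r • w) (hr : r ≠ 0) (hP : (A * T) *ᵥ w = c • w) :
    T *ᵥ w = (r⁻¹ * c) • w := by
  rw [hAT, ← Matrix.mulVec_mulVec, hA, Matrix.mulVec_smul] at hP
  rw [← smul_smul, ← hP, smul_smul, inv_mul_cancel₀ hr, one_smul]

variable {K : Type u} [Field K] [CharP K 3]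

local notation "SL" => Matrix.SpecialLinearGroup (Fin 2) K
local notation "I16" => (Fin 2 × Fin 2) × Fin 2 × Fin 2
local notation "M16" => Matrix ((Fin 2 × Fin 2) × Fin 2 × Fin 2) ((Fin 2 × Fin 2) × Fin 2 × Fin 2) K

local instance : Fact (Nat.Prime 3) := ⟨Nat.prime_three⟩

/-- The first twist. -/
abbrev twA (K : Type u) [Field K] [CharP K 3] (f : ℕ) : K →+* K :=
  haveI : Fact (Nat.Prime 3) := ⟨Nat.prime_three⟩
  iterateFrobenius K 3 f

/-- The representation as matrices. -/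
def quadMat (f : ℕ) : SL →* M16 where
  toFun g := (g.1.map (twA K f) ⊗ₖ g.1.map (twA K (f + 1))) ⊗ₖ (g.1 ⊗ₖ g.1)
  map_one' := by
    simp only [Matrix.SpecialLinearGroup.coe_one, Matrix.map_one _ (map_zero _) (map_one _), one_kronecker_one]
  map_mul' a b := by
    simp only [Matrix.SpecialLinearGroup.coe_mul, Matrix.map_mul, mul_kronecker_mul]

/-- The representation. -/
def quad (f : ℕ) : SL →* M16ˣ := (quadMat f).toHomUnits

theorem quad_apply (f : ℕ) (g : SL) (x y : I16) :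
    (quad f g).val x y = g.1 x.1.1 y.1.1 ^ 3 ^ f * g.1 x.1.2 y.1.2 ^ 3 ^ (f + 1) *
      (g.1 x.2.1 y.2.1 * g.1 x.2.2 y.2.2) := by
  show (g.1.map (twA K f) x.1.1 y.1.1 * g.1.map (twA K (f + 1)) x.1.2 y.1.2) * (g.1 x.2.1 y.2.1 * g.1 x.2.2 y.2.2) = _
  simp [twA, iterateFrobenius_def]

theorem quad_eq_one {f : ℕ} {g : SL} (h : quad f g = 1) : g.1 = 1 ∨ g.1 = -1 := by
  have e := fun x y => Matrix.ext_iff.2 (congrArg Units.val h) x y
  simp only [quad_apply, Units.val_one, Matrix.one_apply] at e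
  have h10 : g.1 1 0 = 0 := by
    have := e ((1, 1), (1, 1)) ((0, 0), (0, 0))
    simpa [← pow_add, ← pow_two] using this
  have h01 : g.1 0 1 = 0 := by
    have := e ((0, 0), (0, 0)) ((1, 1), (1, 1))
    simpa [← pow_add, ← pow_two] using this
  have hdet := g.det_coe
  rw [Matrix.det_fin_two, h10, h01, mul_zero, sub_zero] at hdet
  set a := g.1 0 0
  set d := g.1 1 1
  have ha := e ((1, 0), (1, 0)) ((1, 0), (1, 0))
  simp only [if_true] at ha
  change d ^ 3 ^ f * a ^ 3 ^ (f + 1) * (d * a) = 1 at ha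
  have hda : d * a = 1 := by rw [mul_comm]; exact hdet
  rw [hda, mul_one, pow_succ, pow_mul, show a ^ 3 ^ f = (a ^ 3 ^ f) by rfl] at ha
  have h2 : (a ^ 2) ^ 3 ^ f = 1 := by
    have h3 : d ^ 3 ^ f * a ^ 3 ^ f = 1 := by rw [← mul_pow, hda, one_pow]
    calc (a ^ 2) ^ 3 ^ f = (d ^ 3 ^ f * a ^ 3 ^ f) * (a ^ 3 ^ f * a ^ 3 ^ f) := by rw [h3, one_mul, ← mul_pow, pow_two]
      _ = d ^ 3 ^ f * (a ^ 3 ^ f) ^ 3 := by ring
      _ = 1 := ha
  have h2' : a ^ 2 = 1 := iterateFrobenius_inj K 3 f (by simpa [iterateFrobenius_def] using h2)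
  rcases sq_eq_one_iff.1 h2' with h' | h'
  · left
    have hd : d = 1 := by rw [h', one_mul] at hdet; exact hdet
    ext i j
    fin_cases i <;> fin_cases j <;> simp [h10, h01] <;> first | exact h' | exact hd
  · right
    have hd : d = -1 := by rw [h', neg_one_mul] at hdet; rw [← hdet, neg_neg]
    ext i j
    fin_cases i <;> fin_cases j <;> simp [h10, h01] <;> first | exact h' | exact hd

theorem quad_pow_eq_one {f : ℕ} {g : SL} {n : ℕ} (h : g.1 ^ n = 1 ∨ g.1 ^ n = -1) : quad f g ^ n = 1 := by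
  rw [← map_pow]
  refine Units.ext (Matrix.ext fun x y => ?_)
  rw [quad_apply, Matrix.SpecialLinearGroup.coe_pow, Units.val_one, Matrix.one_apply]
  obtain ⟨⟨a, b⟩, c, d⟩ := x
  obtain ⟨⟨a', b'⟩, c', d'⟩ := y
  have hodd : ∀ k : ℕ, (-1 : K) ^ 3 ^ k = -1 := fun k => (Odd.pow (by decide : Odd 3)).neg_one_pow
  rcases h with h | h <;> rw [h] <;> by_cases h1 : a = a' <;> by_cases h2 : b = b' <;> by_cases h3 : c = c' <;>
    by_cases h4 : d = d' <;> simp [Matrix.one_apply, Matrix.neg_apply, h1, h2, h3, h4, hodd]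

/-- Arithmetic of the weights. -/
theorem weight_dvd {f d : ℕ} (hf : Even f) (hd : d ∣ (3 ^ f) ^ 2 - 1 ∨ d ∣ (3 ^ f) ^ 2 + 1)
    {e : ℤ} (he : e = 2 * (3 ^ f : ℕ) ∨ e = 4 * (3 ^ f : ℕ) ∨ e = 2 * (3 ^ f : ℕ) + 2 ∨ e = 2 * (3 ^ f : ℕ) - 2 ∨
      e = 4 * (3 ^ f : ℕ) + 2 ∨ e = 4 * (3 ^ f : ℕ) - 2) (hde : (d : ℤ) ∣ e) (hpos : 0 < f) :
    d ∣ 2 * (3 ^ f - 1) ∨ d ∣ 2 * (3 ^ f + 1) := by
  obtain ⟨j, rfl⟩ := hf
  have hq : (3 : ℕ) ^ (j + j) = 9 ^ j := by rw [← two_mul, pow_mul]; norm_num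
  have h4 : 3 ^ (j + j) % 4 = 1 := by rw [hq, Nat.pow_mod]; simp
  have h5 : 3 ^ (j + j) % 5 = 1 ∨ 3 ^ (j + j) % 5 = 4 := by
    rw [hq]
    clear hq h4 hd hde he hpos
    induction j with
    | zero => simp
    | succ j ih => rw [pow_succ]; omega
  have hbig : 1 ≤ 3 ^ (j + j) := Nat.one_le_pow _ _ (by norm_num)
  set q := 3 ^ (j + j) with hqdef
  have h3 : ¬3 ∣ d := by
    intro h3
    have h9 : 3 ∣ q ^ 2 := (dvd_pow_self 3 (by omega : j + j ≠ 0)).trans (dvd_pow_self q two_ne_zero)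
    rcases hd with h | h <;>
    · have := h3.trans h
      have : 1 ≤ q ^ 2 := Nat.one_le_pow _ _ (by omega)
      omega
  have four : d ∣ 4 → d ∣ 2 * (q - 1) ∨ d ∣ 2 * (q + 1) := fun h => Or.inl (h.trans (by omega))
  have cop : Nat.Coprime d q := Nat.Coprime.pow_right _ ((Nat.coprime_comm.1 ((Nat.prime_three.coprime_iff_not_dvd).2 h3)))
  rcases he with rfl | rfl | rfl | rfl | he
  · have h : d ∣ 2 * q := by exact_mod_cast hde
    exact four ((cop.dvd_of_dvd_mul_right h).trans (by norm_num))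
  · have h : d ∣ 4 * q := by exact_mod_cast hde
    exact four (cop.dvd_of_dvd_mul_right h)
  · right
    have : (d : ℤ) ∣ ((2 * (q + 1) : ℕ) : ℤ) := by push_cast; (convert hde using 1); ring
    exact_mod_cast this
  · left
    have : (d : ℤ) ∣ ((2 * (q - 1) : ℕ) : ℤ) := by push_cast [Nat.cast_sub hbig]; (convert hde using 1); ring
    exact_mod_cast this
  · have hsq : (d : ℤ) ∣ (4 * (q : ℤ) + 2) * (4 * (q : ℤ) - 2) := by
      rcases he with rfl | rfl
      · exact hde.mul_right _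
      · exact hde.mul_left _
    have h20 : d ∣ 20 ∨ d ∣ 12 := by
      have hQ : 1 ≤ q ^ 2 := Nat.one_le_pow _ _ (by omega)
      rcases hd with h | h
      · right
        have h' : (d : ℤ) ∣ (q : ℤ) ^ 2 - 1 := by
          have := Int.natCast_dvd_natCast.2 h; push_cast [Nat.cast_sub hQ] at this; exact this
        have : (d : ℤ) ∣ 12 := by
          have := dvd_sub hsq (h'.mul_left 16)
          rwa [show (4 * (q : ℤ) + 2) * (4 * q - 2) - 16 * ((q : ℤ) ^ 2 - 1) = 12 by ring] at this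
        exact_mod_cast this
      · left
        have h' : (d : ℤ) ∣ (q : ℤ) ^ 2 + 1 := by
          have := Int.natCast_dvd_natCast.2 h; push_cast at this; exact this
        have : (d : ℤ) ∣ 20 := by
          have := dvd_sub (h'.mul_left 16) hsq
          rwa [show 16 * ((q : ℤ) ^ 2 + 1) - (4 * (q : ℤ) + 2) * (4 * q - 2) = 20 by ring] at this
        exact_mod_cast this
    have h5d : ¬5 ∣ d := fun h => by
      have : (5 : ℤ) ∣ e := (Int.natCast_dvd_natCast.2 h).trans hde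
      rcases he with rfl | rfl <;> omega
    refine four ?_
    rcases h20 with h | h
    · exact (Nat.coprime_comm.1 ((by norm_num : Nat.Prime 5).coprime_iff_not_dvd.2 h5d)).dvd_of_dvd_mul_left
        (by simpa using h : d ∣ 5 * 4)
    · exact (Nat.coprime_comm.1 (Nat.prime_three.coprime_iff_not_dvd.2 h3)).dvd_of_dvd_mul_left
        (by simpa using h : d ∣ 3 * 4)

variable [Fintype K] {f : ℕ}

theorem quad_fixed (hf : Even f) (hpos : 0 < f) (hK : Fintype.card K = (3 ^ f) ^ 2) (g : SL)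
    {l : AlgebraicClosure K} (hl : l ≠ 0) (el : l + l⁻¹ = algebraMap K (AlgebraicClosure K) g.1.trace)
    {v : I16 → K} (hv : v ≠ 0) (h : (quad f g).val *ᵥ v = v) :
    ∃ k, (k = 3 ^ f - 1 ∨ k = 3 ^ f + 1) ∧ (l ^ k = 1 ∨ l ^ k = -1) := by
  set ι := algebraMap K (AlgebraicClosure K)
  haveI : CharP (AlgebraicClosure K) 3 := charP_of_injective_algebraMap ι.injective 3
  have hsq := sl_cayley' g
  set G := g.1.map ι with hG
  have hGq : G * G = (l + l⁻¹) • G - 1 := by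
    rw [el, hG, ← Matrix.map_mul, hsq]
    ext i j
    by_cases e : i = j <;> simp [e]
  have htw : ∀ k, (g.1.map (twA K k)).map ι * (g.1.map (twA K k)).map ι =
      (l ^ 3 ^ k + (l ^ 3 ^ k)⁻¹) • (g.1.map (twA K k)).map ι - 1 := by
    intro k
    rw [← pair_frob 3 hl, el, ← map_pow, ← Matrix.map_mul, ← Matrix.map_mul, hsq]
    ext i j
    by_cases e : i = j <;> simp [e, twA, iterateFrobenius_def, mul_pow, sub_pow_char_pow (p := 3)]
  set A₁ := ((g.1.map (twA K f)).map ι ⊗ₖ (1 : Matrix (Fin 2) (Fin 2) (AlgebraicClosure K))) ⊗ₖ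
    (1 : Matrix (Fin 2 × Fin 2) (Fin 2 × Fin 2) (AlgebraicClosure K)) with hA₁
  set A₂ := ((1 : Matrix (Fin 2) (Fin 2) (AlgebraicClosure K)) ⊗ₖ (g.1.map (twA K (f + 1))).map ι) ⊗ₖ
    (1 : Matrix (Fin 2 × Fin 2) (Fin 2 × Fin 2) (AlgebraicClosure K)) with hA₂
  set A₃ := (1 : Matrix (Fin 2 × Fin 2) (Fin 2 × Fin 2) (AlgebraicClosure K)) ⊗ₖ
    (G ⊗ₖ (1 : Matrix (Fin 2) (Fin 2) (AlgebraicClosure K))) with hA₃
  set A₄ := (1 : Matrix (Fin 2 × Fin 2) (Fin 2 × Fin 2) (AlgebraicClosure K)) ⊗ₖ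
    ((1 : Matrix (Fin 2) (Fin 2) (AlgebraicClosure K)) ⊗ₖ G) with hA₄
  set w : I16 → AlgebraicClosure K := fun i => ι (v i) with hw
  have hw0 : w ≠ 0 := fun e => hv (funext fun i => ι.injective ((congrFun e i).trans (map_zero ι).symm))
  have hprod : A₁ * (A₂ * (A₃ * A₄)) = (quad f g).val.map ι := by
    simp only [hA₁, hA₂, hA₃, hA₄, ← mul_kronecker_mul, one_mul, mul_one]
    ext ⟨⟨a, b⟩, c, d⟩ ⟨⟨a', b'⟩, c', d'⟩
    simp [quad_apply, hG, twA, iterateFrobenius_def, map_mul, map_pow]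
  have hP : (A₁ * (A₂ * (A₃ * A₄))) *ᵥ w = (1 : AlgebraicClosure K) • w := by
    rw [one_smul, hprod]
    funext i
    exact (RingHom.map_mulVec ι (quad f g).val v i).symm.trans (by rw [h])
  have c1 : A₁ * (A₂ * (A₃ * A₄)) = A₂ * (A₃ * A₄) * A₁ := by
    simp only [hA₁, hA₂, hA₃, hA₄, ← mul_kronecker_mul, one_mul, mul_one]
  have c2 : A₂ * (A₃ * A₄) = A₃ * A₄ * A₂ := by
    simp only [hA₂, hA₃, hA₄, ← mul_kronecker_mul, one_mul, mul_one]
  have c3 : A₃ * A₄ = A₄ * A₃ := by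
    simp only [hA₃, hA₄, ← mul_kronecker_mul, one_mul, mul_one]
  have hl1 : l ^ 3 ^ f ≠ 0 := pow_ne_zero _ hl
  have hl2 : l ^ 3 ^ (f + 1) ≠ 0 := pow_ne_zero _ hl
  obtain ⟨w1, a, hw1, ha, ea, eP⟩ := peel (A := A₁) (T := A₁ * (A₂ * (A₃ * A₄)))
    (by rw [mul_assoc, ← c1]) hl1 (kron_left_quad (kron_left_quad (htw f))) hw0 hP
  have ha0 : a ≠ 0 := by rcases ha with rfl | rfl <;> simp [hl]
  obtain ⟨w2, b, hw2, hb, eb, eP2⟩ := peel (A := A₂) (T := A₂ * (A₃ * A₄))
    (by rw [mul_assoc, ← c2]) hl2 (kron_left_quad (kron_right_quad (htw (f + 1)))) hw1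
    (eigen_next c1 ea ha0 eP)
  have hb0 : b ≠ 0 := by rcases hb with rfl | rfl <;> simp [hl]
  obtain ⟨w3, c, hw3, hc, ec, eP3⟩ := peel (A := A₃) (T := A₃ * A₄)
    (by rw [mul_assoc, ← c3]) hl (kron_right_quad (kron_left_quad hGq)) hw2 (eigen_next c2 eb hb0 eP2)
  have hc0 : c ≠ 0 := by rcases hc with rfl | rfl <;> simp [hl]
  have ed := eigen_next c3 ec hc0 eP3
  obtain ⟨d, hd, he1⟩ : ∃ d, (d = l ∨ d = l⁻¹) ∧ a * b * c * d = 1 := by
    refine ⟨c⁻¹ * (b⁻¹ * (a⁻¹ * 1)), ?_, by field_simp⟩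
    set d := c⁻¹ * (b⁻¹ * (a⁻¹ * 1))
    have h4 := congrArg (· *ᵥ w3) (kron_right_quad (m := Fin 2 × Fin 2) (kron_right_quad (m := Fin 2) hGq))
    simp only [← hA₄, ← Matrix.mulVec_mulVec, ed, Matrix.mulVec_smul, Matrix.sub_mulVec, Matrix.smul_mulVec,
      Matrix.one_mulVec, smul_smul] at h4
    have h5 : (d * d - (l + l⁻¹) * d + 1) • w3 = 0 := by linear_combination (norm := module) h4
    have h6 := (smul_eq_zero.1 h5).resolve_right hw3
    have hd0 : d ≠ 0 := fun e => by rw [e] at h6; simp at h6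
    refine pair_eq hl hd0 ?_
    field_simp
    field_simp at h6
    linear_combination h6
  set L := Units.mk0 l hl
  obtain ⟨i, hi, ei⟩ : ∃ i : ℤ, (i = (3 ^ f : ℕ) ∨ i = -(3 ^ f : ℕ)) ∧ a = ((L ^ i : (AlgebraicClosure K)ˣ) : AlgebraicClosure K) := by
    rcases ha with rfl | rfl
    · exact ⟨_, Or.inl rfl, by rw [zpow_natCast]; rfl⟩
    · exact ⟨_, Or.inr rfl, by rw [_root_.zpow_neg, zpow_natCast, Units.val_inv_eq_inv_val]; rfl⟩
  obtain ⟨i', hi', ei'⟩ : ∃ i : ℤ, (i = 3 * (3 ^ f : ℕ) ∨ i = -(3 * (3 ^ f : ℕ))) ∧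
      b = ((L ^ i : (AlgebraicClosure K)ˣ) : AlgebraicClosure K) := by
    have e3 : (3 : ℤ) * ((3 ^ f : ℕ) : ℤ) = ((3 ^ (f + 1) : ℕ) : ℤ) := by push_cast; ring
    rcases hb with rfl | rfl
    · exact ⟨_, Or.inl rfl, by rw [e3, zpow_natCast]; rfl⟩
    · exact ⟨_, Or.inr rfl, by rw [e3, _root_.zpow_neg, zpow_natCast, Units.val_inv_eq_inv_val]; rfl⟩
  have one' : ∀ x : AlgebraicClosure K, (x = l ∨ x = l⁻¹) → ∃ i : ℤ, (i = 1 ∨ i = -1) ∧
      x = ((L ^ i : (AlgebraicClosure K)ˣ) : AlgebraicClosure K) := by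
    rintro x (rfl | rfl)
    · exact ⟨1, Or.inl rfl, by rw [zpow_one]; rfl⟩
    · exact ⟨-1, Or.inr rfl, by rw [_root_.zpow_neg_one, Units.val_inv_eq_inv_val]; rfl⟩
  obtain ⟨j, hj, ej⟩ := one' c hc
  obtain ⟨j', hj', ej'⟩ := one' d hd
  rw [ei, ei', ej, ej', ← Units.val_mul, ← Units.val_mul, ← Units.val_mul, ← _root_.zpow_add, ← _root_.zpow_add,
    ← _root_.zpow_add, Units.val_eq_one, ← orderOf_dvd_iff_zpow_eq_one] at he1
  obtain ⟨e, he, hde⟩ : ∃ e : ℤ, (e = 2 * (3 ^ f : ℕ) ∨ e = 4 * (3 ^ f : ℕ) ∨ e = 2 * (3 ^ f : ℕ) + 2 ∨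
      e = 2 * (3 ^ f : ℕ) - 2 ∨ e = 4 * (3 ^ f : ℕ) + 2 ∨ e = 4 * (3 ^ f : ℕ) - 2) ∧ (orderOf L : ℤ) ∣ e := by
    have hq1 : (1 : ℤ) ≤ ((3 ^ f : ℕ) : ℤ) := by exact_mod_cast Nat.one_le_pow f 3 (by norm_num)
    by_cases hs : 0 ≤ i + i' + j + j'
    · exact ⟨i + i' + j + j', by omega, he1⟩
    · exact ⟨-(i + i' + j + j'), by omega, dvd_neg.2 he1⟩
  have hQ : (3 ^ f) ^ 2 = 3 ^ (f * 2) := (pow_mul 3 f 2).symm
  have hy : (l + l⁻¹) ^ 3 ^ (f * 2) = l + l⁻¹ := by rw [el, ← hQ, ← hK, ← map_pow, FiniteField.pow_card]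
  have hdd : orderOf L ∣ (3 ^ f) ^ 2 - 1 ∨ orderOf L ∣ (3 ^ f) ^ 2 + 1 := by
    rw [hQ]
    exact (pow_eq_one_of_fixed 3 hl hy).imp (fun h => orderOf_dvd_of_pow_eq_one (Units.ext (by simpa [L] using h)))
      fun h => orderOf_dvd_of_pow_eq_one (Units.ext (by simpa [L] using h))
  have sq : ∀ k, orderOf L ∣ 2 * k → l ^ k = 1 ∨ l ^ k = -1 := fun k hk => by
    refine sq_eq_one_iff.1 ?_
    rw [← pow_mul, mul_comm]
    simpa [L] using congrArg Units.val (orderOf_dvd_iff_pow_eq_one.1 hk)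
  rcases weight_dvd hf hdd he hde hpos with hk | hk
  · exact ⟨_, Or.inl rfl, sq _ hk⟩
  · exact ⟨_, Or.inr rfl, sq _ hk⟩

theorem exists_large_three (hf : Even f) (hpos : 0 < f) (hK : Fintype.card K = (3 ^ f) ^ 2) (N : ℕ) :
    ∃ (G : Type) (_ : Group G) (_ : Fintype G), N < Fintype.card G ∧
      Set.range (orderOf : G → ℕ) = {d | ∃ n ∈ specList 3 (3 ^ f), d ∣ n} := by
  classical
  haveI : CharP (AlgebraicClosure K) 3 := charP_of_injective_algebraMap (algebraMap K _).injective 3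
  have hq2 : 9 ≤ 3 ^ f := by
    obtain ⟨j, rfl⟩ := hf
    calc 9 = 3 ^ 2 := rfl
      _ ≤ 3 ^ (j + j) := Nat.pow_le_pow_right (by norm_num) (by omega)
  have hd := halfOf_dvd (f := f) Nat.prime_three
  have hh : halfOf 3 = 2 := rfl
  refine exists_large_of_list (H := (quad (K := K) f).range) 3 _ (fun c v => ?_) (fun n hn => ?_) N
  · obtain ⟨g, hg⟩ := c.2
    have hpow : ∀ n, (g.1 ^ n = 1 ∨ g.1 ^ n = -1) → c ^ n = 1 := fun n h =>
      Subtype.ext (by rw [Subgroup.coe_pow, ← hg, quad_pow_eq_one h]; rfl)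
    obtain ⟨l, hl, el⟩ := exists_sl_root g
    by_cases hl2 : l = 1 ∨ l = -1
    · exact ⟨3 * 3, by simp [specList], pow_mul_char 3 c v (hpow 3 (sl_pow_char (p := 3) g el hl2))⟩
    by_cases hk : ∃ k, (k = 3 ^ f - 1 ∨ k = 3 ^ f + 1) ∧ (l ^ k = 1 ∨ l ^ k = -1)
    · obtain ⟨k, hk, h⟩ := hk
      exact ⟨_, specList_mem_mid hk, pow_mul_char 3 c v
        (hpow k (sl_pow_distinct 3 g hl el hl2 (by rcases hk with rfl | rfl <;> omega) h))⟩
    · have hQ : (3 ^ f) ^ 2 = 3 ^ (f * 2) := (pow_mul 3 f 2).symm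
      have hy : (l + l⁻¹) ^ 3 ^ (f * 2) = l + l⁻¹ := by rw [el, ← hQ, ← hK, ← map_pow, FiniteField.pow_card]
      have hQ4 : 4 ≤ (3 ^ f) ^ 2 := by nlinarith
      have fin : ∀ n, halfOf 3 ∣ n → 2 ≤ n → l ^ n = 1 → semiPair v c ^ (n / halfOf 3) = 1 := by
        intro n hn hn0 h1
        refine pow_eq_one_of_free c v (hpow _ (sl_pow_distinct 3 g hl el hl2 (by rw [hh]; omega)
          (pm_of_dvd hn h1))) fun w hw => ?_
        by_contra hw0
        refine hk (quad_fixed hf hpos hK g hl el hw0 ?_)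
        rw [hg]
        exact hw
      rcases pow_eq_one_of_fixed 3 hl hy with h | h <;> rw [← hQ] at h
      · exact ⟨((3 ^ f) ^ 2 - 1) / halfOf 3, by simp [specList], fin _ hd.2 (by omega) h⟩
      · exact ⟨((3 ^ f) ^ 2 + 1) / halfOf 3, by simp [specList], fin _ hd.1 (by omega) h⟩
  · have hmid : ∀ k, (k = 3 ^ f - 1 ∨ k = 3 ^ f + 1) →
        ∃ (c : ↥(quad (K := K) f).range) (v : I16 → K), k * 3 ∣ orderOf (semiPair v c) := by
      intro k hk
      obtain ⟨r, hr⟩ := exists_unit_order ((mid_dvd (p := 3) hK hk).2 (by norm_num))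
      let c : ↥(quad (K := K) f).range := ⟨_, dia r, rfl⟩
      have hk0 : 0 < k := by rcases hk with rfl | rfl <;> omega
      have hup : orderOf c ∣ 2 * k := orderOf_dvd_of_pow_eq_one (Subtype.ext (by
        show quad f (dia r) ^ (2 * k) = 1
        rw [← map_pow, ← map_pow, ← hr, pow_orderOf_eq_one, map_one, map_one]))
      have hlow : k ∣ orderOf c := by
        have h1 : quad f (dia (r ^ orderOf c)) = 1 := by
          rw [map_pow, map_pow]; exact congrArg Subtype.val (pow_orderOf_eq_one c)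
        have hpm := dia_pm (quad_eq_one h1)
        have : r ^ (2 * orderOf c) = 1 := Units.ext (by
          rw [mul_comm, pow_mul, Units.val_pow_eq_pow_val]
          rcases hpm with e | e <;> rw [e] <;> simp)
        exact Nat.dvd_of_mul_dvd_mul_left two_pos (hr ▸ orderOf_dvd_of_pow_eq_one this)
      have hpc : ¬3 ∣ orderOf c := fun h => Nat.prime_three.coprime_iff_not_dvd.1
        (((Nat.coprime_primes Nat.prime_three Nat.prime_two).2 (by norm_num)).mul_right (coprime_mid hpos.ne' hk))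
        (h.trans hup)
      have hr2 : (r : K) ^ (2 * k) = 1 := by
        rw [← Units.val_pow_eq_pow_val, ← hr, pow_orderOf_eq_one]; rfl
      have hr0 := r.ne_zero
      rcases hk with rfl | rfl
      · refine ⟨c, Pi.single ((1, 0), (1, 1)) 1, dvd_orderOf_of_fixed 3 c (by simp) ?_ hlow hpc⟩
        funext x
        show ((quad f (dia r)).val *ᵥ Pi.single ((1, 0), (1, 1)) 1) x = _
        rw [Matrix.mulVec_single_one, Matrix.col_apply, quad_apply]
        obtain ⟨⟨a, b⟩, c', d⟩ := x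
        fin_cases a <;> fin_cases b <;> fin_cases c' <;> fin_cases d <;> simp [dia_val, pow_succ]
        have h2q : (r : K) ^ (2 * 3 ^ f) = (r : K) ^ 2 := by
          conv_lhs => rw [show 2 * 3 ^ f = 2 * (3 ^ f - 1) + 2 by omega, pow_add, hr2, one_mul]
        field_simp
        linear_combination (r : K) ^ 3 ^ f * h2q
      · refine ⟨c, Pi.single ((1, 0), (0, 0)) 1, dvd_orderOf_of_fixed 3 c (by simp) ?_ hlow hpc⟩
        funext x
        show ((quad f (dia r)).val *ᵥ Pi.single ((1, 0), (0, 0)) 1) x = _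
        rw [Matrix.mulVec_single_one, Matrix.col_apply, quad_apply]
        obtain ⟨⟨a, b⟩, c', d⟩ := x
        fin_cases a <;> fin_cases b <;> fin_cases c' <;> fin_cases d <;> simp [dia_val, pow_succ]
        field_simp
        linear_combination (r : K) ^ 3 ^ f * hr2
    have tor : ∀ n, (n = ((3 ^ f) ^ 2 + 1) / halfOf 3 ∨ n = ((3 ^ f) ^ 2 - 1) / halfOf 3) →
        ∃ (c : ↥(quad (K := K) f).range) (v : I16 → K), n ∣ orderOf (semiPair v c) := by
      intro n hn
      obtain ⟨A, hA⟩ : ∃ A : SL, orderOf A = halfOf 3 * n := by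
        rcases hn with rfl | rfl
        · rw [Nat.mul_div_cancel' hd.1, ← hK]
          exact CfsgLib.Classical.PSL2Spectrum.exists_order_add_one
        · rw [Nat.mul_div_cancel' hd.2, ← hK]
          exact CfsgLib.Classical.PSL2Spectrum.exists_order_sub_one
      refine ⟨⟨_, A, rfl⟩, 0, dvd_trans ?_ (orderOf_map_dvd SemidirectProduct.rightHom _)⟩
      set c : ↥(quad (K := K) f).range := ⟨_, A, rfl⟩
      show _ ∣ orderOf c
      refine dvd_of_sl_pm (p := 3) hA (quad_eq_one (f := f) ?_)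
      rw [map_pow]
      exact congrArg Subtype.val (pow_orderOf_eq_one c)
    simp only [specList, List.mem_cons, List.not_mem_nil, or_false] at hn
    rcases hn with rfl | rfl | rfl | rfl | rfl
    rotate_left 2
    · rw [mul_comm]; exact hmid _ (Or.inl rfl)
    · rw [mul_comm]; exact hmid _ (Or.inr rfl)
    · rw [if_pos le_rfl]
      let g : SL := ⟨!![1, 1; 0, 1], by simp [Matrix.det_fin_two]⟩
      have hgv : g.1 = !![1, 1; 0, 1] := rfl
      let c : ↥(quad (K := K) f).range := ⟨_, g, rfl⟩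
      refine ⟨c, Pi.single ((0, 0), (1, 1)) 1, ?_⟩
      have three : (3 : K) = 0 := by simpa using CharP.cast_eq_zero K 3
      have hcp : orderOf c = 3 := by
        refine orderOf_eq_prime (Subtype.ext (quad_pow_eq_one (Or.inl ?_))) fun h => ?_
        · rw [hgv]
          ext i j
          fin_cases i <;> fin_cases j <;> simp [pow_succ, Matrix.mul_apply]
          linear_combination three
        · rcases quad_eq_one (congrArg Subtype.val h : quad f g = 1) with e | e <;>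
            simpa [hgv] using congrFun (congrFun e 0) 1
      rw [orderOf_semiPair, hcp, pow_two]
      refine mul_dvd_mul_left 3 (addOrderOf_eq_prime (funext fun x => ?_) ?_).symm.dvd
      · rw [Pi.smul_apply, nsmul_eq_mul, CharP.cast_eq_zero, zero_mul]; rfl
      · intro h
        have h00 := congrFun h ((0, 0), (0, 0))
        have hv2 : valOf (c ^ 2) = (quad f (g * g)).val := by
          show (((c ^ 2 : ↥(quad (K := K) f).range)) : M16ˣ).val = _
          rw [Subgroup.coe_pow, show (c : M16ˣ) = quad f g from rfl, ← map_pow, pow_two]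
        rw [Finset.sum_range_succ, Finset.sum_range_succ, Finset.sum_range_one, pow_zero, pow_one, one_smul,
          smul_eq_mulVec, smul_eq_mulVec, hv2, Pi.add_apply, Pi.add_apply,
          show valOf c = (quad f g).val from rfl, Matrix.mulVec_single_one, Matrix.mulVec_single_one,
          Matrix.col_apply, Matrix.col_apply, quad_apply, quad_apply, Matrix.SpecialLinearGroup.coe_mul] at h00
        simp [hgv, Matrix.mul_apply] at h00
        have : (2 : K) = 0 := by linear_combination h00 - three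
        exact one_ne_zero (show (1 : K) = 0 by linear_combination three - this)
    · exact tor _ (Or.inl rfl)
    · exact tor _ (Or.inr rfl)

end CfsgLib.Char.SpFourSpec
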