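import Cfsg.Agent.Lib.Char.SpFourSpec.Upper
import Cfsg.Agent.Lib.Classical.SpOrders
import Cfsg.Agent.Lib.Sp.Basic
import Cfsg.Prelude.Def_Classical

/-!
# Element orders of the projective symplectic groups of dimension four
-/

set_option autoImplicit false

namespace CfsgLib.Char.SpFourSpec

open Matrix CfsgLib.Classical.SpOrders

universe u

variable {F : Type u} [Field F] [Fintype F] {p f : ℕ} [Fact p.Prime] [CharP F p]

omit [Fintype F] in
/-- A matrix with a power `-1` of order not divisible by two: characteristic two. -/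
theorem one_eq_neg_of_two (h : p = 2) {ι : Type*} [Fintype ι] [DecidableEq ι] :
    (-1 : Matrix ι ι F) = 1 := by
  subst h
  exact Matrix.ext fun i j => by rw [Matrix.neg_apply, CharTwo.neg_eq]

omit [Fintype F] [CharP F p] [Fact p.Prime] in
theorem two_mul_dvd {m : ℕ} (x : Matrix.symplecticGroup (Fin m) F) {n : ℕ}
    (h : (x ^ n).1 = 1 ∨ (x ^ n).1 = -1) : orderOf x ∣ 2 * n := orderOf_dvd_of_pow_eq_one (Subtype.ext (by
  rw [two_mul, pow_add]
  show (x ^ n).1 * (x ^ n).1 = 1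
  rcases h with e | e <;> rw [e] <;> simp))

omit [Fintype F] in
theorem dvd_of_pm_torus {m : ℕ} (x : Matrix.symplecticGroup (Fin m) F) {n j : ℕ} (hj : orderOf x = halfOf p * j)
    (h : (x ^ n).1 = 1 ∨ (x ^ n).1 = -1) : j ∣ n := by
  rcases halfOf_cases (Fact.out : p.Prime) with ⟨hp, hh⟩ | ⟨-, hh⟩ <;> rw [hh] at hj
  · rw [one_mul] at hj
    exact hj ▸ orderOf_dvd_of_pow_eq_one
      (Subtype.ext (h.elim id fun e => e.trans (one_eq_neg_of_two (p := p) hp)))
  · exact Nat.dvd_of_mul_dvd_mul_left two_pos (hj ▸ two_mul_dvd x h)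

omit [Fintype F] in
theorem dvd_of_pm_unipotent {m : ℕ} (x : Matrix.symplecticGroup (Fin m) F) {n e : ℕ} (he : orderOf x = p ^ e)
    (h : (x ^ n).1 = 1 ∨ (x ^ n).1 = -1) : p ^ e ∣ n ∧ (x ^ n).1 = 1 := by
  have key : x ^ n = 1 := by
    rcases halfOf_cases (Fact.out : p.Prime) with ⟨hp, -⟩ | ⟨ho, -⟩
    · exact Subtype.ext (h.elim id fun e' => e'.trans (one_eq_neg_of_two (p := p) hp))
    · refine orderOf_dvd_iff_pow_eq_one.1 (Nat.Coprime.dvd_of_dvd_mul_left ?_ (two_mul_dvd x h))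
      rw [he]
      exact (Nat.coprime_two_right.2 (Nat.odd_iff.2 ho)).pow_left e
  exact ⟨he ▸ orderOf_dvd_of_pow_eq_one key, congrArg Subtype.val key⟩

theorem exists_big (hq : Fintype.card F = p ^ f) :
    ∀ n ∈ specList p (p ^ f), ∃ x : Matrix.symplecticGroup (Fin 2) F,
      ∀ k, ((x ^ k).1 = 1 ∨ (x ^ k).1 = -1) → n ∣ k := by
  classical
  have hp := (Fact.out : p.Prime)
  have hd := halfOf_dvd (f := f) hp
  haveI : Finite (FiniteField.Extension F p 2) := Module.finite_of_finite F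
  letI : Fintype (FiniteField.Extension F p 2) := Fintype.ofFinite _
  obtain ⟨φ, hφ, -⟩ := exists_sl_hom (F := F) 2 one_le_two (FiniteField.finrank_extension F p 2)
  have hcard : Fintype.card (FiniteField.Extension F p 2) = (p ^ f) ^ 2 := by
    rw [Module.card_eq_pow_finrank (K := F), FiniteField.finrank_extension, hq]
  obtain ⟨ψ, hψ, -⟩ := exists_sl_hom (F := F) 1 le_rfl (Module.finrank_self F)
  obtain ⟨u, hu⟩ := exists_unipotent_order (F := F) p 1 le_rfl
  rw [show Nat.clog p (2 * 1) = 1 from Nat.clog_eq_one le_rfl hp.two_le, pow_one] at hu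
  have torus : ∀ A : Matrix.SpecialLinearGroup (Fin 2) (FiniteField.Extension F p 2), halfOf p ∣ orderOf A →
      ∃ x : Matrix.symplecticGroup (Fin 2) F, ∀ k, ((x ^ k).1 = 1 ∨ (x ^ k).1 = -1) → orderOf A / halfOf p ∣ k :=
    fun A hA => ⟨φ A, fun k h => dvd_of_pm_torus (p := p) _
      (by rw [orderOf_injective φ hφ, Nat.mul_div_cancel' hA]) h⟩
  have mixed : ∀ A : Matrix.SpecialLinearGroup (Fin 2) F, Nat.Coprime p (orderOf A) →
      ∃ x : Matrix.symplecticGroup (Fin 2) F, ∀ k, ((x ^ k).1 = 1 ∨ (x ^ k).1 = -1) → p * orderOf A ∣ k := by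
    intro A hA
    refine ⟨blockHom 1 1 (u, ψ A), fun k h => ?_⟩
    rw [← map_pow, Prod.pow_mk] at h
    have h' : ((u ^ k).1 = 1 ∧ (ψ A ^ k).1 = 1) ∨ ((u ^ k).1 = -1 ∧ (ψ A ^ k).1 = -1) := by
      rcases h with h | h
      · exact Or.inl (bmat_inj (h.trans (bmat_one 1 1)))
      · refine Or.inr (bmat_inj (h.trans ?_))
        show -(1 : Matrix (Fin (1 + 1) ⊕ Fin (1 + 1)) (Fin (1 + 1) ⊕ Fin (1 + 1)) F) = bmat (-1) (-1)
        rw [bmat_one, bmat_neg]
    obtain ⟨h1, h2⟩ := dvd_of_pm_unipotent u (e := 1) (by rw [pow_one, hu]) (h'.imp And.left And.left)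
    rw [pow_one] at h1
    refine hA.mul_dvd_of_dvd_of_dvd h1 ?_
    rw [← orderOf_injective ψ hψ]
    refine orderOf_dvd_of_pow_eq_one (Subtype.ext ?_)
    rcases h' with e | e
    · exact e.2
    · show (ψ A ^ k).1 = 1
      rw [e.2, ← e.1, h2]
  have hcop : ∀ j, (j = p ^ f - 1 ∨ j = p ^ f + 1) → Nat.Coprime p j := by
    intro j hj
    refine hp.coprime_iff_not_dvd.2 fun hpj => hp.one_lt.not_ge (Nat.le_of_dvd one_pos ?_)
    have hpf : p ∣ p ^ f := dvd_pow_self p fun h0 => absurd Fintype.one_lt_card (by rw [hq, h0, pow_zero]; omega)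
    rcases hj with rfl | rfl
    · have := Nat.dvd_sub hpf hpj
      rwa [Nat.sub_sub_self (Nat.one_le_pow _ _ hp.pos)] at this
    · have := Nat.dvd_sub hpj hpf
      rwa [Nat.add_sub_cancel_left] at this
  intro n hn
  simp only [specList, List.mem_cons, List.not_mem_nil, or_false] at hn
  rcases hn with rfl | rfl | rfl | rfl | rfl
  · obtain ⟨A, hA⟩ := CfsgLib.Classical.PSL2Spectrum.exists_order_add_one (F := FiniteField.Extension F p 2)
    rw [hcard] at hA
    rw [← hA]
    exact torus A (hA ▸ hd.1)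
  · obtain ⟨A, hA⟩ := CfsgLib.Classical.PSL2Spectrum.exists_order_sub_one (F := FiniteField.Extension F p 2)
    rw [hcard] at hA
    rw [← hA]
    exact torus A (hA ▸ hd.2)
  · obtain ⟨A, hA⟩ := CfsgLib.Classical.PSL2Spectrum.exists_order_sub_one (F := F)
    rw [hq] at hA
    rw [← hA]
    exact mixed A (hA ▸ hcop _ (Or.inl rfl))
  · obtain ⟨A, hA⟩ := CfsgLib.Classical.PSL2Spectrum.exists_order_add_one (F := F)
    rw [hq] at hA
    rw [← hA]
    exact mixed A (hA ▸ hcop _ (Or.inr rfl))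
  · obtain ⟨w, hw⟩ := exists_unipotent_order (F := F) p 2 one_le_two
    refine ⟨w, fun k h => ?_⟩
    have he := (dvd_of_pm_unipotent w hw h).1
    refine dvd_trans ?_ he
    split_ifs with h3
    · refine pow_dvd_pow p ?_
      by_contra hlt
      have h4 := Nat.le_pow_clog hp.one_lt (2 * 2)
      have : p ^ Nat.clog p (2 * 2) ≤ p ^ 1 := Nat.pow_le_pow_right hp.pos (by omega)
      rw [pow_one] at this
      omega
    · exact dvd_pow_self p (Nat.clog_pos hp.one_lt (by norm_num)).ne'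

theorem range_psp_four (hq : Fintype.card F = p ^ f) :
    Set.range (orderOf : Cfsg.PSp 2 F → ℕ) = {d | ∃ n ∈ specList p (p ^ f), d ∣ n} := by
  ext d
  constructor
  · rintro ⟨g, rfl⟩
    obtain ⟨M, rfl⟩ := QuotientGroup.mk'_surjective _ g
    obtain ⟨n, hn, h⟩ := exists_pow_pm hq M.2
    refine ⟨n, hn, orderOf_dvd_of_pow_eq_one ?_⟩
    rw [← map_pow, ← map_one (QuotientGroup.mk' _)]
    refine (CfsgLib.Sp.pr_eq_iff one_le_two).2 ?_
    rcases h with h | h
    · left; rw [SubmonoidClass.coe_pow, h]; rfl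
    · right; rw [SubmonoidClass.coe_pow, h, neg_neg]; rfl
  · rintro ⟨n, hn, hd⟩
    obtain ⟨x, hx⟩ := exists_big hq n hn
    haveI : Finite (Matrix.symplecticGroup (Fin 2) F) :=
      Finite.of_injective (fun X => (X.1 : Matrix _ _ F)) Subtype.val_injective
    have hdvd : n ∣ orderOf (QuotientGroup.mk' (Subgroup.center (Matrix.symplecticGroup (Fin 2) F)) x) := by
      refine hx _ ?_
      have h := pow_orderOf_eq_one (QuotientGroup.mk' (Subgroup.center (Matrix.symplecticGroup (Fin 2) F)) x)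
      rw [← map_pow, ← map_one (QuotientGroup.mk' _)] at h
      rcases (CfsgLib.Sp.pr_eq_iff one_le_two).1 h.symm with e | e
      · exact Or.inl e
      · exact Or.inr e
    exact ⟨_, orderOf_pow_orderOf_div (orderOf_pos _).ne' (hd.trans hdvd)⟩

end CfsgLib.Char.SpFourSpec
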