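import Mathlib

/-!
# Powers of a matrix from the roots of a polynomial killing it
-/

set_option autoImplicit false

namespace CfsgLib.Char.SpFourSpec

open Polynomial

universe u

/-- A product of linear factors of bounded multiplicity divides a binomial. -/
theorem prod_dvd_binomial {K : Type u} [Field K] (p : ℕ) [Fact p.Prime] [CharP K p] (S : Multiset K)
    (e : ℕ) {m : ℕ} (hm : 0 < m) {c : K} (hS : ∀ r ∈ S, r ^ m = c)
    (hc : ∀ [DecidableEq K], ∀ r ∈ S, S.count r ≤ p ^ e) :
    (S.map fun r => X - C r).prod ∣ X ^ (m * p ^ e) - C (c ^ p ^ e) := by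
  classical
  have hne : (X ^ m - C c : K[X]) ≠ 0 := (monic_X_pow_sub_C c hm.ne').ne_zero
  have h : (X ^ (m * p ^ e) - C (c ^ p ^ e) : K[X]) = (X ^ m - C c) ^ p ^ e := by
    rw [sub_pow_char_pow, ← pow_mul, map_pow]
  rw [h, Multiset.prod_X_sub_C_dvd_iff_le_roots (pow_ne_zero _ hne), Multiset.le_iff_count]
  intro r
  by_cases hr : r ∈ S
  · rw [roots_pow, Multiset.count_nsmul]
    refine (hc r hr).trans (Nat.le_mul_of_pos_right _ (Multiset.count_pos.2 ?_))
    rw [mem_roots hne]
    simp [hS r hr]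
  · simp [Multiset.count_eq_zero.2 hr]

/-- If the roots of a polynomial killing `M` have a common power, so does `M`. -/
theorem pow_eq_smul_one {F : Type u} [Field F] (p : ℕ) [Fact p.Prime] [CharP F p] {ι : Type*} [Fintype ι]
    [DecidableEq ι] (M : Matrix ι ι F) (f : F[X]) (hM : aeval M f = 0) (S : Multiset (AlgebraicClosure F))
    (hf : f.map (algebraMap F (AlgebraicClosure F)) = (S.map fun r => X - C r).prod) (e : ℕ) {m : ℕ} (hm : 0 < m)
    (c : F) (hS : ∀ r ∈ S, r ^ m = algebraMap F (AlgebraicClosure F) c)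
    (hc : ∀ [DecidableEq (AlgebraicClosure F)], ∀ r ∈ S, S.count r ≤ p ^ e) :
    M ^ (m * p ^ e) = (c ^ p ^ e) • (1 : Matrix ι ι F) := by
  haveI : CharP (AlgebraicClosure F) p := charP_of_injective_algebraMap (algebraMap F _).injective p
  have h := prod_dvd_binomial p S e hm hS hc
  have hmap : (X ^ (m * p ^ e) - C (c ^ p ^ e) : F[X]).map (algebraMap F (AlgebraicClosure F)) =
      X ^ (m * p ^ e) - C (algebraMap F (AlgebraicClosure F) c ^ p ^ e) := by simp
  rw [← hf, ← hmap, map_dvd_map'] at h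
  obtain ⟨g, hg⟩ := h
  have h' := congrArg (aeval M) hg
  rw [map_mul, hM, zero_mul, map_sub, map_pow, aeval_X, aeval_C, sub_eq_zero] at h'
  rw [h', Algebra.algebraMap_eq_smul_one]

theorem exists_pair {K : Type u} [Field K] [IsAlgClosed K] (y : K) : ∃ l : K, l ≠ 0 ∧ l + l⁻¹ = y := by
  obtain ⟨l, hl⟩ := IsAlgClosed.exists_root (X ^ 2 - C y * X + C 1 : K[X]) (by
    rw [show (X ^ 2 - C y * X + C 1 : K[X]) = C (1 : K) * X ^ 2 + C (-y) * X + C 1 by simp; ring,
      degree_quadratic one_ne_zero]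
    exact two_ne_zero)
  simp only [IsRoot.def, eval_add, eval_sub, eval_pow, eval_X, eval_mul, eval_C] at hl
  have h0 : l ≠ 0 := fun h => by rw [h] at hl; simp at hl
  refine ⟨l, h0, ?_⟩
  field_simp
  linear_combination hl

theorem pair_eq {K : Type u} [Field K] {l l' : K} (h0 : l ≠ 0) (h0' : l' ≠ 0) (h : l' + l'⁻¹ = l + l⁻¹) :
    l' = l ∨ l' = l⁻¹ := by
  have : (l' - l) * (l' * l - 1) = 0 := by
    field_simp at h
    linear_combination h
  rcases mul_eq_zero.1 this with e | e
  · exact Or.inl (sub_eq_zero.1 e)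
  · exact Or.inr (eq_inv_of_mul_eq_one_left (sub_eq_zero.1 e))

theorem pair_self {K : Type u} [Field K] {l : K} (h0 : l ≠ 0) :
    (l + l⁻¹ = 2 ∨ l + l⁻¹ = -2) ↔ (l = 1 ∨ l = -1) := by
  constructor
  · rintro (h | h)
    · left
      have : (l - 1) * (l - 1) = 0 := by
        field_simp at h
        linear_combination h
      simpa [sub_eq_zero] using this
    · right
      have : (l + 1) * (l + 1) = 0 := by
        field_simp at h
        linear_combination h
      simpa [add_eq_zero_iff_eq_neg] using this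
  · rintro (rfl | rfl) <;> norm_num

theorem pair_frob {K : Type u} [Field K] (p : ℕ) [Fact p.Prime] [CharP K p] {l : K} (h0 : l ≠ 0) (k : ℕ) :
    (l + l⁻¹) ^ p ^ k = l ^ p ^ k + (l ^ p ^ k)⁻¹ := by
  rw [add_pow_char_pow, inv_pow]

/-- A pair whose sum is fixed by a power of the Frobenius map. -/
theorem pow_eq_one_of_fixed {K : Type u} [Field K] (p : ℕ) [Fact p.Prime] [CharP K p] {l : K} (h0 : l ≠ 0)
    {k : ℕ} (h : (l + l⁻¹) ^ p ^ k = l + l⁻¹) : l ^ (p ^ k - 1) = 1 ∨ l ^ (p ^ k + 1) = 1 := by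
  rw [pair_frob p h0] at h
  have hpos : 0 < p ^ k := Nat.pow_pos (Fact.out : p.Prime).pos
  rcases pair_eq h0 (pow_ne_zero _ h0) h with e | e
  · left
    refine mul_right_cancel₀ h0 ?_
    rw [one_mul, ← pow_succ, Nat.sub_add_cancel hpos, e]
  · right
    rw [pow_succ, e, inv_mul_cancel₀ h0]

theorem fixed_iff_mem_range {F : Type u} [Field F] [Fintype F] {K : Type u} [Field K] [Algebra F K] (y : K) :
    y ^ Fintype.card F = y ↔ y ∈ Set.range (algebraMap F K) := by
  classical
  refine ⟨fun h => ?_, ?_⟩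
  · have hq : 1 < Fintype.card F := Fintype.one_lt_card
    have hne : (X ^ Fintype.card F - X : K[X]) ≠ 0 := FiniteField.X_pow_card_sub_X_ne_zero K hq
    have hroots : (Finset.univ.image (algebraMap F K)) = (X ^ Fintype.card F - X : K[X]).roots.toFinset := by
      refine Finset.eq_of_subset_of_card_le (fun x hx => ?_) ?_
      · obtain ⟨a, -, rfl⟩ := Finset.mem_image.1 hx
        rw [Multiset.mem_toFinset, mem_roots hne, IsRoot.def, eval_sub, eval_pow, eval_X, ← map_pow,
          FiniteField.pow_card, sub_self]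
      · rw [Finset.card_image_of_injective _ (algebraMap F K).injective, Finset.card_univ]
        refine (Multiset.toFinset_card_le _).trans ((card_roots' _).trans ?_)
        rw [FiniteField.X_pow_card_sub_X_natDegree_eq K hq]
    have : y ∈ (X ^ Fintype.card F - X : K[X]).roots.toFinset := by
      rw [Multiset.mem_toFinset, mem_roots hne, IsRoot.def, eval_sub, eval_pow, eval_X, h, sub_self]
    rw [← hroots, Finset.mem_image] at this
    obtain ⟨a, -, rfl⟩ := this
    exact ⟨a, rfl⟩
  · rintro ⟨a, rfl⟩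
    rw [← map_pow, FiniteField.pow_card]

end CfsgLib.Char.SpFourSpec
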