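import Cfsg.Agent.Lib.Char.SpFourSpec.Upper

/-!
# Powers of two by two matrices of determinant one, and Kronecker products of them
-/

set_option autoImplicit false
set_option linter.style.haveILetI false
set_option linter.unusedSectionVars false

namespace CfsgLib.Char.SpFourSpec

open Polynomial Matrix
open scoped Kronecker

universe u

variable {K : Type u} [Field K]

local notation "SL" => Matrix.SpecialLinearGroup (Fin 2) K

/-- The roots of the characteristic polynomial. -/
theorem exists_sl_root (g : SL) :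
    ∃ l : AlgebraicClosure K, l ≠ 0 ∧ l + l⁻¹ = algebraMap K (AlgebraicClosure K) g.1.trace := by
  exact exists_pair _

theorem sl_map_prod {l : AlgebraicClosure K} (hl : l ≠ 0) (t : K)
    (h : l + l⁻¹ = algebraMap K (AlgebraicClosure K) t) :
    (X ^ 2 - C t * X + 1 : K[X]).map (algebraMap K (AlgebraicClosure K)) =
      ((↑[l, l⁻¹] : Multiset (AlgebraicClosure K)).map fun r => X - C r).prod := by
  have : C l * C l⁻¹ = 1 := by rw [← C_mul, mul_inv_cancel₀ hl, C_1]
  rw [Multiset.map_coe, Multiset.prod_coe]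
  simp only [List.map, List.prod_cons, List.prod_nil, mul_one, Polynomial.map_add, Polynomial.map_sub,
    Polynomial.map_mul, Polynomial.map_pow, map_X, map_C, Polynomial.map_one, ← h, map_add]
  linear_combination -this

theorem sl_aeval (g : SL) : aeval g.1 (X ^ 2 - C g.1.trace * X + 1 : K[X]) = 0 := by
  have h := Matrix.aeval_self_charpoly g.1
  rwa [Matrix.charpoly_fin_two, g.det_coe, C_1] at h

variable {p : ℕ} [Fact p.Prime] [CharP K p]

theorem sl_pow_of_root (g : SL) {l : AlgebraicClosure K} (hl : l ≠ 0)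
    (h : l + l⁻¹ = algebraMap K (AlgebraicClosure K) g.1.trace) (e : ℕ) {k : ℕ} (hk : 0 < k)
    (hpm : l ^ k = 1 ∨ l ^ k = -1)
    (hc : ∀ [DecidableEq (AlgebraicClosure K)] (r : AlgebraicClosure K), Multiset.count r (↑[l, l⁻¹] : Multiset _) ≤ p ^ e) :
    g.1 ^ (k * p ^ e) = 1 ∨ g.1 ^ (k * p ^ e) = -1 := by
  obtain ⟨c, hc', hlc⟩ : ∃ c : K, (c = 1 ∨ c = -1) ∧ l ^ k = algebraMap K (AlgebraicClosure K) c := by
    rcases hpm with e' | e'
    · exact ⟨1, Or.inl rfl, by rw [e', map_one]⟩
    · exact ⟨-1, Or.inr rfl, by rw [e', map_neg, map_one]⟩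
  rw [pow_eq_smul_one p g.1 _ (sl_aeval g) _ (sl_map_prod hl _ h) e hk c (fun r hr => ?_) (fun r _ => hc r)]
  · rcases hc' with rfl | rfl
    · left; simp
    · rcases neg_one_pow_eq_or K (p ^ e) with h' | h' <;> simp [h']
  · simp only [Multiset.mem_coe, List.mem_cons, List.not_mem_nil, or_false] at hr
    rcases hr with rfl | rfl
    · exact hlc
    · rw [inv_pow, hlc, ← map_inv₀]
      rcases hc' with rfl | rfl <;> simp

theorem sl_pow_distinct (p : ℕ) [Fact p.Prime] [CharP K p] (g : SL) {l : AlgebraicClosure K} (hl : l ≠ 0)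
    (h : l + l⁻¹ = algebraMap K (AlgebraicClosure K) g.1.trace) (hne : ¬(l = 1 ∨ l = -1)) {k : ℕ} (hk : 0 < k)
    (hpm : l ^ k = 1 ∨ l ^ k = -1) : g.1 ^ k = 1 ∨ g.1 ^ k = -1 := by
  classical
  have hll : l ≠ l⁻¹ := fun e =>
    hne (sq_eq_one_iff.1 (by rw [pow_two]; nth_rewrite 2 [e]; exact mul_inv_cancel₀ hl))
  have := sl_pow_of_root (p := p) g hl h 0 hk hpm (fun {inst} r =>
    Multiset.nodup_iff_count_le_one.1 (Multiset.coe_nodup.2 (by simp [hll])) r)
  simpa using this

theorem sl_pow_char (g : SL) {l : AlgebraicClosure K}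
    (h : l + l⁻¹ = algebraMap K (AlgebraicClosure K) g.1.trace) (hl2 : l = 1 ∨ l = -1) :
    g.1 ^ p = 1 ∨ g.1 ^ p = -1 := by
  classical
  have hl : l ≠ 0 := by rcases hl2 with rfl | rfl <;> simp
  have := sl_pow_of_root (p := p) g hl h 1 one_pos (by simpa using hl2)
    (fun {inst} r => (Multiset.count_le_card r _).trans (by simpa using (Fact.out : p.Prime).two_le))
  simpa using this

/-- A unipotent part. -/
theorem sl_sq_zero (g : SL) {l : AlgebraicClosure K}
    (h : l + l⁻¹ = algebraMap K (AlgebraicClosure K) g.1.trace) (hl2 : l = 1 ∨ l = -1) :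
    ∃ c : K, (c = 1 ∨ c = -1) ∧ (c • g.1 - 1) * (c • g.1 - 1) = 0 := by
  obtain ⟨c, hc, hlc⟩ : ∃ c : K, (c = 1 ∨ c = -1) ∧ l = algebraMap K (AlgebraicClosure K) c := by
    rcases hl2 with e | e
    · exact ⟨1, Or.inl rfl, by rw [e, map_one]⟩
    · exact ⟨-1, Or.inr rfl, by rw [e, map_neg, map_one]⟩
  refine ⟨c, hc, ?_⟩
  have ht : g.1.trace = c + c⁻¹ := by
    apply (algebraMap K (AlgebraicClosure K)).injective
    rw [map_add, map_inv₀, ← hlc, h]
  have h2 := sl_aeval g
  simp only [map_add, map_sub, map_mul, map_pow, map_one, aeval_X, aeval_C, ← Algebra.smul_def, pow_two] at h2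
  rw [ht] at h2
  have hc2 : c * c = 1 := by rcases hc with rfl | rfl <;> ring
  rw [inv_eq_of_mul_eq_one_left hc2] at h2
  have e : (c • g.1 - 1) * (c • g.1 - 1) = (c * c) • (g.1 * g.1) - (c + c) • g.1 + 1 := by
    simp only [Matrix.sub_mul, Matrix.mul_sub, Matrix.smul_mul, Matrix.mul_smul, Matrix.one_mul, Matrix.mul_one]
    module
  rw [e, hc2, one_smul, ← h2]

/-- Two commuting quadratic operators whose product fixes a vector have the same trace. -/
theorem trace_eq_of_fixed {n : Type*} [Fintype n] [DecidableEq n] {A B : Matrix n n K} {s t : K}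
    (hAB : A * B = B * A) (hA : A * A = s • A - 1) (hB : B * B = t • B - 1) {v : n → K} (hv : v ≠ 0)
    (h : (A * B) *ᵥ v = v) : s = t := by
  have h1 := congrArg (A *ᵥ ·) h
  have h2 := congrArg (B *ᵥ ·) h
  simp only [Matrix.mulVec_mulVec] at h1 h2
  rw [← Matrix.mul_assoc, hA, Matrix.sub_mul, Matrix.smul_mul, Matrix.one_mul, Matrix.sub_mulVec,
    Matrix.smul_mulVec, h] at h1
  rw [hAB, ← Matrix.mul_assoc, hB, Matrix.sub_mul, Matrix.smul_mul, Matrix.one_mul, Matrix.sub_mulVec,
    Matrix.smul_mulVec, ← hAB, h] at h2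
  have h3 : (s - t) • v = 0 := by linear_combination (norm := module) h1 - h2
  exact sub_eq_zero.1 ((smul_eq_zero.1 h3).resolve_right hv)

theorem nilp_three {R : Type*} [Ring R] {a b : R} (ha : a * a = 0) (hb : b * b = 0) (hab : a * b = b * a) :
    ((1 + a) * (1 + b) - 1) ^ 3 = 0 := by
  have ha' : ∀ x, a * (a * x) = 0 := fun x => by rw [← mul_assoc, ha, zero_mul]
  have hb' : ∀ x, b * (b * x) = 0 := fun x => by rw [← mul_assoc, hb, zero_mul]
  have hab' : ∀ x, b * (a * x) = a * (b * x) := fun x => by rw [← mul_assoc, ← hab, mul_assoc]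
  have e : (1 + a) * (1 + b) - 1 = a + b + a * b := by noncomm_ring
  rw [e]
  simp [pow_succ, pow_zero, mul_add, add_mul, mul_assoc, ha', hb', hab', ha, hb, ← hab]

end CfsgLib.Char.SpFourSpec
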