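import Cfsg.Agent.Lib.Char.SpFourSpec.SLPow
import Cfsg.Agent.Lib.Char.SpFourSpec.Affine

/-!
# The twisted tensor square of the natural module

Over a field with `q²` elements, `g` acts by `g ⊗ σ(g)`, where `σ` is the automorphism `x ↦ x ^ q`.
-/

set_option autoImplicit false
set_option linter.style.haveILetI false
set_option linter.unusedSectionVars false

namespace CfsgLib.Char.SpFourSpec

open Matrix
open scoped Kronecker

universe u

variable {K : Type u} [Field K]

local notation "SL" => Matrix.SpecialLinearGroup (Fin 2) K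
local notation "M2" => Matrix (Fin 2) (Fin 2) K
local notation "M4" => Matrix (Fin 2 × Fin 2) (Fin 2 × Fin 2) K

theorem sl_cayley' (g : SL) : g.1 * g.1 = g.1.trace • g.1 - 1 := by
  have h := sl_aeval g
  simp only [map_add, map_sub, map_mul, map_pow, map_one, Polynomial.aeval_X, Polynomial.aeval_C,
    ← Algebra.smul_def, pow_two] at h
  rw [← sub_eq_zero, ← h]
  abel

/-- The representation as matrices. -/
def twistMat (σ : K →+* K) : SL →* M4 where
  toFun g := g.1 ⊗ₖ g.1.map σ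
  map_one' := by
    rw [Matrix.SpecialLinearGroup.coe_one, Matrix.map_one σ (map_zero σ) (map_one σ), one_kronecker_one]
  map_mul' a b := by
    rw [Matrix.SpecialLinearGroup.coe_mul, Matrix.map_mul, mul_kronecker_mul]

/-- The representation. -/
def twist (σ : K →+* K) : SL →* M4ˣ := (twistMat σ).toHomUnits

theorem twist_val (σ : K →+* K) (g : SL) : (twist σ g).val = g.1 ⊗ₖ g.1.map σ := rfl

theorem twist_apply (σ : K →+* K) (g : SL) (x y : Fin 2 × Fin 2) :
    (twist σ g).val x y = g.1 x.1 y.1 * σ (g.1 x.2 y.2) := rfl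

/-- The exchange of the factors, with a sign. -/
def flipMat : M4 := Matrix.of fun x y => if y = x.swap then -1 else 0

theorem flipMat_sq : (flipMat : M4) * flipMat = 1 := by
  ext ⟨i, j⟩ ⟨k, l⟩
  rw [Matrix.mul_apply, Fintype.sum_eq_single (j, i) fun x hx => by
    rw [show flipMat (i, j) x = (0 : K) from if_neg hx, zero_mul]]
  simp only [flipMat, Matrix.of_apply, Prod.swap_prod_mk, if_true, Matrix.one_apply, Prod.mk.injEq]
  by_cases h : i = k ∧ j = l
  · simp [h.1, h.2]
  · rw [if_neg h, if_neg fun e => h ⟨e.1.symm, e.2.symm⟩, mul_zero]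

theorem flipMat_conj (A B : M2) : (flipMat : M4) * (A ⊗ₖ B) = (B ⊗ₖ A) * flipMat := by
  ext ⟨i, j⟩ ⟨k, l⟩
  rw [Matrix.mul_apply, Matrix.mul_apply, Fintype.sum_eq_single (j, i) fun x hx => by
      rw [show flipMat (i, j) x = (0 : K) from if_neg hx, zero_mul],
    Fintype.sum_eq_single (l, k) fun x hx => by
      rw [show flipMat x (k, l) = (0 : K) from if_neg (fun e => hx (by rw [← Prod.swap_swap x, ← e]; rfl)), mul_zero]]
  simp only [flipMat, Matrix.of_apply, Prod.swap_prod_mk, if_true, kronecker_apply]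
  ring

/-- The exchange as a unit. -/
def flipUnit : M4ˣ := ⟨flipMat, flipMat, flipMat_sq, flipMat_sq⟩

theorem flipUnit_sq : (flipUnit : M4ˣ) * flipUnit = 1 := Units.ext flipMat_sq

/-- The automorphism applied to a matrix of determinant one. -/
def twistSL (σ : K →+* K) : SL →* SL := Matrix.SpecialLinearGroup.map σ

theorem flip_twist {σ : K →+* K} (hσ : ∀ x, σ (σ x) = x) (g : SL) :
    (flipUnit : M4ˣ) * twist σ g = twist σ (twistSL σ g) * flipUnit := by
  refine Units.ext ?_
  show flipMat * (g.1 ⊗ₖ g.1.map σ) = ((g.1.map σ) ⊗ₖ (g.1.map σ).map σ) * flipMat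
  rw [flipMat_conj, Matrix.map_map, show σ ∘ σ = id from funext hσ, Matrix.map_id]

/-- The subgroup of twisted tensor matrices. -/
def innerGroup (σ : K →+* K) : Subgroup M4ˣ := (twist σ).range

/-- The subgroup with the exchange adjoined. -/
def outerGroup (σ : K →+* K) (hσ : ∀ x, σ (σ x) = x) : Subgroup M4ˣ where
  carrier := {h | ∃ g, h = twist σ g ∨ h = twist σ g * flipUnit}
  one_mem' := ⟨1, Or.inl (map_one _).symm⟩
  mul_mem' := by
    rintro _ _ ⟨a, ha⟩ ⟨b, hb⟩
    rcases ha with rfl | rfl <;> rcases hb with rfl | rfl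
    · exact ⟨a * b, Or.inl (map_mul _ a b).symm⟩
    · exact ⟨a * b, Or.inr (by rw [map_mul, mul_assoc])⟩
    · exact ⟨a * twistSL σ b, Or.inr (by rw [map_mul, mul_assoc, flip_twist hσ, ← mul_assoc])⟩
    · refine ⟨a * twistSL σ b, Or.inl ?_⟩
      rw [map_mul, mul_assoc, ← mul_assoc flipUnit, flip_twist hσ, mul_assoc (twist σ (twistSL σ b)), flipUnit_sq,
        mul_one]
  inv_mem' := by
    rintro _ ⟨a, rfl | rfl⟩
    · exact ⟨a⁻¹, Or.inl (map_inv _ a).symm⟩
    · refine ⟨twistSL σ a⁻¹, Or.inr ?_⟩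
      rw [_root_.mul_inv_rev, ← map_inv, inv_eq_of_mul_eq_one_left flipUnit_sq, flip_twist hσ]

theorem twist_sq_flip {σ : K →+* K} (hσ : ∀ x, σ (σ x) = x) (g : SL) :
    (twist σ g * flipUnit) ^ 2 = twist σ (g * twistSL σ g) := by
  rw [pow_two, map_mul, mul_assoc, ← mul_assoc flipUnit, flip_twist hσ, mul_assoc (twist σ (twistSL σ g)),
    flipUnit_sq, mul_one]

theorem twist_eq_one {σ : K →+* K} {g : SL} (h : twist σ g = 1) : g.1 = 1 ∨ g.1 = -1 := by
  have e := fun i j k l => Matrix.ext_iff.2 (congrArg Units.val h) (i, j) (k, l)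
  simp only [twist_apply, Units.val_one, Matrix.one_apply, Prod.mk.injEq] at e
  have h00 := e 0 0 0 0
  simp at h00
  have ha : σ (g.1 0 0) ≠ 0 := fun h0 => by rw [h0, mul_zero] at h00; exact zero_ne_one h00
  have h10 := e 1 0 0 0
  have h01 := e 0 0 1 0
  have h11 := e 1 0 1 0
  simp [ha] at h10 h01 h11
  have hd : g.1 1 1 = g.1 0 0 := mul_right_cancel₀ ha (h11.trans h00.symm)
  have hdet := g.det_coe
  rw [Matrix.det_fin_two, h10, h01, hd, mul_zero, sub_zero] at hdet
  rcases mul_self_eq_one_iff.1 hdet with h' | h'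
  · left; ext i j; fin_cases i <;> fin_cases j <;> simp [h10, h01, hd, h']
  · right; ext i j; fin_cases i <;> fin_cases j <;> simp [h10, h01, hd, h']

theorem twist_ne_flip {σ : K →+* K} (g : SL) : twist σ g ≠ (flipUnit : M4ˣ) := fun h => by
  have e := fun i j k l => Matrix.ext_iff.2 (congrArg Units.val h) (i, j) (k, l)
  simp only [twist_apply, flipUnit, flipMat, Matrix.of_apply, Prod.swap_prod_mk, Prod.mk.injEq] at e
  have h00 := e 0 0 0 0
  simp at h00
  have ha : σ (g.1 0 0) ≠ 0 := fun h0 => by rw [h0, mul_zero] at h00; simp at h00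
  have h11 := e 1 0 1 0
  have h01 := e 0 0 1 0
  simp [ha] at h11 h01
  have hdet := g.det_coe
  rw [Matrix.det_fin_two, h11, h01] at hdet
  simp at hdet

theorem twist_pow_eq_one {σ : K →+* K} {g : SL} {n : ℕ} (h : g.1 ^ n = 1 ∨ g.1 ^ n = -1) : twist σ g ^ n = 1 := by
  rw [← map_pow]
  refine Units.ext ?_
  rw [twist_val, Matrix.SpecialLinearGroup.coe_pow, Units.val_one]
  ext ⟨i, j⟩ ⟨k, l⟩
  rcases h with h | h <;> rw [h] <;> simp only [kronecker_apply, Matrix.map_apply, Matrix.neg_apply, map_neg,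
    neg_mul_neg] <;> by_cases h1 : i = k <;> by_cases h2 : j = l <;> simp [Matrix.one_apply, h1, h2]

theorem twist_fixed_trace {σ : K →+* K} (g : SL) {v : Fin 2 × Fin 2 → K} (hv : v ≠ 0)
    (h : (twist σ g).val *ᵥ v = v) : σ g.1.trace = g.1.trace := by
  have hsq := sl_cayley' g
  have hsq' : g.1.map σ * g.1.map σ = σ g.1.trace • g.1.map σ - 1 := by
    rw [← Matrix.map_mul, hsq]
    ext i j
    by_cases h : i = j <;> simp [h]
  refine (trace_eq_of_fixed (A := g.1 ⊗ₖ (1 : M2)) (B := (1 : M2) ⊗ₖ g.1.map σ) ?_ ?_ ?_ hv ?_).symm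
  · rw [← mul_kronecker_mul, ← mul_kronecker_mul]; simp
  · rw [← mul_kronecker_mul, hsq, one_mul]
    ext ⟨i, j⟩ ⟨k, l⟩
    by_cases h1 : i = k <;> by_cases h2 : j = l <;> simp [kronecker_apply, h1, h2, sub_mul, mul_assoc]
  · rw [← mul_kronecker_mul, hsq', one_mul]
    ext ⟨i, j⟩ ⟨k, l⟩
    by_cases h1 : i = k <;> by_cases h2 : j = l <;> simp [kronecker_apply, h1, h2]
  · rw [← mul_kronecker_mul, one_mul, mul_one]
    exact h

theorem twist_sub_one_cube {σ : K →+* K} (g : SL) {c : K} (hc : c = 1 ∨ c = -1)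
    (hn : (c • g.1 - 1) * (c • g.1 - 1) = 0) : ((twist σ g).val - 1) ^ 3 = 0 := by
  have hsigma : (c • g.1).map σ = c • g.1.map σ := by
    ext i j; rcases hc with rfl | rfl <;> simp
  have e : (twist σ g).val = (1 + (c • g.1 - 1) ⊗ₖ (1 : M2)) * (1 + (1 : M2) ⊗ₖ ((c • g.1 - 1).map σ)) := by
    have e1 : (1 : M4) + (c • g.1 - 1) ⊗ₖ (1 : M2) = (c • g.1) ⊗ₖ (1 : M2) := by
      rw [← one_kronecker_one, ← add_kronecker, add_sub_cancel]
    have e2 : (1 : M4) + (1 : M2) ⊗ₖ ((c • g.1 - 1).map σ) = (1 : M2) ⊗ₖ (c • g.1.map σ) := by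
      rw [← one_kronecker_one, ← kronecker_add, ← hsigma, Matrix.map_sub σ (map_sub σ),
        Matrix.map_one σ (map_zero σ) (map_one σ), add_sub_cancel]
    rw [e1, e2, ← mul_kronecker_mul, mul_one, one_mul, smul_kronecker, kronecker_smul, smul_smul]
    rcases hc with rfl | rfl <;> simp [twist_val]
  rw [e]
  refine nilp_three ?_ ?_ ?_
  · rw [← mul_kronecker_mul, hn, zero_kronecker]
  · rw [← mul_kronecker_mul, ← Matrix.map_mul, hn, Matrix.map_zero σ (map_zero σ), kronecker_zero]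
  · rw [← mul_kronecker_mul, ← mul_kronecker_mul]; simp

end CfsgLib.Char.SpFourSpec
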