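import Cfsg.Agent.Lib.Char.SpFourSpec.Roots
import Cfsg.Agent.Lib.Char.SpFourThreeSpectrum

/-!
# Exponents of elements of the symplectic group of dimension four
-/

set_option autoImplicit false

namespace CfsgLib.Char.SpFourSpec

open Polynomial

universe u

/-- The divisor by which central elements shrink a torus. -/
def halfOf (p : ℕ) : ℕ := if p = 2 then 1 else 2

/-- The maximal element orders in the projective symplectic group of dimension four over `q = p ^ f` elements. -/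
def specList (p q : ℕ) : List ℕ :=
  [(q ^ 2 + 1) / halfOf p, (q ^ 2 - 1) / halfOf p, p * (q - 1), p * (q + 1), if p ≤ 3 then p ^ 2 else p]

theorem halfOf_cases {p : ℕ} (hp : p.Prime) :
    (p = 2 ∧ halfOf p = 1) ∨ (p % 2 = 1 ∧ halfOf p = 2) := by
  rcases hp.eq_two_or_odd with h | h
  · exact Or.inl ⟨h, if_pos h⟩
  · exact Or.inr ⟨h, if_neg (by omega)⟩

theorem halfOf_dvd {p f : ℕ} (hp : p.Prime) :
    halfOf p ∣ (p ^ f) ^ 2 + 1 ∧ halfOf p ∣ (p ^ f) ^ 2 - 1 := by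
  rcases halfOf_cases hp with ⟨-, h⟩ | ⟨ho, h⟩
  · rw [h]; exact ⟨one_dvd _, one_dvd _⟩
  · rw [h]
    have h2 : (p ^ f) ^ 2 % 2 = 1 := by rw [Nat.pow_mod, Nat.pow_mod p, ho]; simp
    omega

theorem dvd_half_sub_one {p f : ℕ} (hp : p.Prime) :
    p ^ f - 1 ∣ ((p ^ f) ^ 2 - 1) / halfOf p ∧ p ^ f + 1 ∣ ((p ^ f) ^ 2 - 1) / halfOf p := by
  have hfac : (p ^ f) ^ 2 - 1 = (p ^ f + 1) * (p ^ f - 1) := by
    simpa using Nat.sq_sub_sq (p ^ f) 1
  rcases halfOf_cases hp with ⟨-, h⟩ | ⟨ho, h⟩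
  · rw [h, Nat.div_one, hfac]
    exact ⟨dvd_mul_left _ _, dvd_mul_right _ _⟩
  · rw [h, hfac]
    have h2 : (p ^ f) % 2 = 1 := by rw [Nat.pow_mod, ho]; simp
    exact ⟨⟨(p ^ f + 1) / 2, by rw [mul_comm, Nat.mul_div_assoc _ (by omega : 2 ∣ p ^ f + 1)]⟩,
      ⟨(p ^ f - 1) / 2, Nat.mul_div_assoc _ (by omega)⟩⟩

theorem pm_of_dvd {p : ℕ} [Fact p.Prime] {K : Type u} [Field K] [CharP K p] {x : K} {n : ℕ}
    (hn : halfOf p ∣ n) (hx : x ^ n = 1) : x ^ (n / halfOf p) = 1 ∨ x ^ (n / halfOf p) = -1 := by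
  obtain ⟨k, rfl⟩ := hn
  rcases halfOf_cases (Fact.out : p.Prime) with ⟨-, h⟩ | ⟨-, h⟩ <;> rw [h] at hx ⊢
  · left; simpa using hx
  · rw [Nat.mul_div_cancel_left _ two_pos]
    rw [mul_comm, pow_mul] at hx
    exact sq_eq_one_iff.1 hx

theorem pm_sq_even {p f : ℕ} [Fact p.Prime] {K : Type u} [Field K] [CharP K p] {x : K}
    (hx : x = 1 ∨ x = -1) : x ^ (p ^ f - 1) = 1 ∧ x ^ (p ^ f + 1) = 1 := by
  rcases hx with rfl | rfl
  · simp
  rcases halfOf_cases (Fact.out : p.Prime) with ⟨h, -⟩ | ⟨ho, -⟩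
  · subst h
    rw [show (-1 : K) = 1 from CharTwo.neg_eq 1]
    simp
  · have h2 : (p ^ f) % 2 = 1 := by rw [Nat.pow_mod, ho]; simp
    exact ⟨(Nat.even_iff.2 (by omega)).neg_one_pow, (Nat.even_iff.2 (by omega)).neg_one_pow⟩

theorem count_le_two {K : Type u} [Field K] [DecidableEq K] (l m : K)
    (h : (l = m ∧ l ≠ l⁻¹) ∨ (l ≠ m ∧ l ≠ m⁻¹ ∧ l⁻¹ ≠ m ∧ l⁻¹ ≠ m⁻¹)) (r : K) :
    Multiset.count r (↑[l, l⁻¹, m, m⁻¹] : Multiset K) ≤ 2 := by
  simp only [Multiset.coe_count, List.count_cons, List.count_nil, beq_iff_eq]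
  split_ifs <;> simp_all

variable {F : Type u} [Field F]

theorem sp_quartic_aeval {M : Matrix (Fin 2 ⊕ Fin 2) (Fin 2 ⊕ Fin 2) F}
    (hM : M ∈ Matrix.symplecticGroup (Fin 2) F) :
    ∃ a b : F, aeval M (X ^ 4 - C a * X ^ 3 - C b * X ^ 2 - C a * X + 1 : F[X]) = 0 := by
  have h : M * SpFourThreeSpectrum.adj M = 1 := by
    rw [SpFourThreeSpectrum.adj, ← Matrix.mul_assoc, ← Matrix.mul_assoc, SymplecticGroup.mem_iff.1 hM,
      Matrix.mul_neg, Matrix.J_squared, neg_neg]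
  refine ⟨SpFourThreeSpectrum.qa (M + SpFourThreeSpectrum.adj M),
    SpFourThreeSpectrum.qb (M + SpFourThreeSpectrum.adj M) - 2, ?_⟩
  have hq := SpFourThreeSpectrum.quartic h
  generalize SpFourThreeSpectrum.qb (M + SpFourThreeSpectrum.adj M) - 2 = b at hq ⊢
  generalize SpFourThreeSpectrum.qa (M + SpFourThreeSpectrum.adj M) = a at hq ⊢
  simp only [map_add, map_sub, map_mul, map_pow, map_one, aeval_X, aeval_C, Algebra.algebraMap_eq_smul_one,
    Matrix.smul_mul, Matrix.one_mul]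
  have e4 : M ^ 4 = M * (M * (M * M)) := by simp [pow_succ, Matrix.mul_assoc]
  have e3 : M ^ 3 = M * (M * M) := by simp [pow_succ, Matrix.mul_assoc]
  have e2 : M ^ 2 = M * M := pow_two M
  rw [e4, e3, e2, hq]
  module

variable [Fintype F] {p f : ℕ} [Fact p.Prime] [CharP F p]

theorem exists_pow_pm (hq : Fintype.card F = p ^ f) {M : Matrix (Fin 2 ⊕ Fin 2) (Fin 2 ⊕ Fin 2) F}
    (hM : M ∈ Matrix.symplecticGroup (Fin 2) F) :
    ∃ n ∈ specList p (p ^ f), M ^ n = 1 ∨ M ^ n = -1 := by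
  classical
  obtain ⟨a, b, hab⟩ := sp_quartic_aeval hM
  set P : F[X] := X ^ 4 - C a * X ^ 3 - C b * X ^ 2 - C a * X + 1
  haveI : CharP (AlgebraicClosure F) p := charP_of_injective_algebraMap (algebraMap F _).injective p
  set ι := algebraMap F (AlgebraicClosure F)
  obtain ⟨y, hy⟩ := IsAlgClosed.exists_root (X ^ 2 - C (ι a) * X - C (ι b + 2) : (AlgebraicClosure F)[X]) (by
    rw [show (X ^ 2 - C (ι a) * X - C (ι b + 2) : (AlgebraicClosure F)[X]) =
      C (1 : AlgebraicClosure F) * X ^ 2 + C (-ι a) * X + C (-(ι b + 2)) by simp; ring, degree_quadratic one_ne_zero]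
    exact two_ne_zero)
  simp only [IsRoot.def, eval_sub, eval_pow, eval_X, eval_mul, eval_C] at hy
  have hfix : ∀ c : F, ι c ^ p ^ f = ι c := fun c => by rw [← hq, ← map_pow, FiniteField.pow_card]
  have hprod : ∀ l m : AlgebraicClosure F, l ≠ 0 → m ≠ 0 → l + l⁻¹ = y → m + m⁻¹ = ι a - y →
      P.map ι = ((↑[l, l⁻¹, m, m⁻¹] : Multiset (AlgebraicClosure F)).map fun r => X - C r).prod := by
    intro l m hl hm el em
    have hpair : ∀ l : AlgebraicClosure F, l ≠ 0 → (X - C l) * (X - C l⁻¹) = X ^ 2 - C (l + l⁻¹) * X + 1 := by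
      intro l hl
      have : C l * C l⁻¹ = 1 := by rw [← C_mul, mul_inv_cancel₀ hl, C_1]
      rw [C_add]
      linear_combination this
    rw [Multiset.map_coe, Multiset.prod_coe]
    simp only [List.map, List.prod_cons, List.prod_nil, mul_one]
    rw [← mul_assoc, hpair l hl, hpair m hm, el, em]
    simp only [P, Polynomial.map_add, Polynomial.map_sub, Polynomial.map_mul, Polynomial.map_pow, map_X, map_C,
      Polynomial.map_one, map_sub]
    change X ^ 4 - C (ι a) * X ^ 3 - C (ι b) * X ^ 2 - C (ι a) * X + 1 = _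
    have e := congrArg (C : AlgebraicClosure F → (AlgebraicClosure F)[X]) hy
    simp only [map_sub, map_add, map_mul, map_pow, map_zero, show C (2 : AlgebraicClosure F) = 2 from rfl] at e
    linear_combination X ^ 2 * e
  have key : ∀ (l m : AlgebraicClosure F) (e k : ℕ) (c : F), l ≠ 0 → m ≠ 0 → l + l⁻¹ = y → m + m⁻¹ = ι a - y →
      0 < k → l ^ k = ι c → m ^ k = ι c → (c = 1 ∨ c = -1) →
      (∀ r, Multiset.count r (↑[l, l⁻¹, m, m⁻¹] : Multiset (AlgebraicClosure F)) ≤ p ^ e) →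
      M ^ (k * p ^ e) = 1 ∨ M ^ (k * p ^ e) = -1 := by
    intro l m e k c hl hm el em hk h1 h2 hc hcount
    have hinv : ι c⁻¹ = ι c := by rcases hc with rfl | rfl <;> simp
    have hpow := pow_eq_smul_one p M P hab _ (hprod l m hl hm el em) e hk c (by
      intro r hr
      simp only [Multiset.mem_coe, List.mem_cons, List.not_mem_nil, or_false] at hr
      rcases hr with rfl | rfl | rfl | rfl
      · exact h1
      · rw [inv_pow, h1, ← map_inv₀, hinv]
      · exact h2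
      · rw [inv_pow, h2, ← map_inv₀, hinv]) (fun {inst} r _ => by convert hcount r)
    rw [hpow]
    rcases hc with rfl | rfl
    · left; simp
    · rcases neg_one_pow_eq_or F (p ^ e) with h | h <;> simp [h]
  have hup : ∀ n n' : ℕ, n ∣ n' → (M ^ n = 1 ∨ M ^ n = -1) → (M ^ n' = 1 ∨ M ^ n' = -1) := by
    rintro n n' ⟨k, rfl⟩ h
    rcases h with h | h <;> rw [pow_mul, h]
    · left; rw [one_pow]
    · exact neg_one_pow_eq_or _ k
  have hroot : (y ^ p ^ f) ^ 2 - ι a * y ^ p ^ f - (ι b + 2) = 0 := by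
    have h2 : (2 : AlgebraicClosure F) ^ p ^ f = 2 := by rw [← map_ofNat ι 2]; exact hfix 2
    have h := congrArg (· ^ p ^ f) hy
    simp only [sub_pow_char_pow, add_pow_char_pow, mul_pow, hfix, h2,
      zero_pow (pow_ne_zero f (Fact.out : p.Prime).ne_zero), ← pow_mul] at h
    rw [← pow_mul, mul_comm (p ^ f) 2]
    exact h
  have hz : (y ^ p ^ f - y) * (y ^ p ^ f - (ι a - y)) = 0 := by linear_combination hroot - hy
  obtain ⟨l, hl, el⟩ := exists_pair y
  have hp2 := (Fact.out : p.Prime).two_le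
  have hpos : 0 < p ^ f := Nat.pow_pos (by omega)
  have hq2 : 2 ≤ p ^ f := hq ▸ Fintype.one_lt_card
  by_cases hyF : y ^ p ^ f = y
  swap
  · have hyz : y ^ p ^ f = ι a - y := sub_eq_zero.1 ((mul_eq_zero.1 hz).resolve_left (sub_ne_zero.2 hyF))
    have hy2 : y ^ p ^ (f * 2) = y := by
      rw [pow_mul p, pow_two (p ^ f), pow_mul, hyz, sub_pow_char_pow, hfix, hyz]
      ring
    have hm : (l ^ p ^ f) + (l ^ p ^ f)⁻¹ = ι a - y := by rw [← pair_frob p hl, el, hyz]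
    have hnot : ¬(l = 1 ∨ l = -1) := by
      intro h
      rcases (pair_self hl).2 h with e | e <;> rw [el] at e <;> refine hyF ?_ <;> rw [e]
      · rw [← map_ofNat ι 2]; exact hfix 2
      · rw [← map_ofNat ι 2, ← map_neg]; exact hfix (-2)
    have hll : l ≠ l⁻¹ := fun h => hnot (sq_eq_one_iff.1 (by rw [pow_two]; nth_rewrite 2 [h]; exact mul_inv_cancel₀ hl))
    have hmm : l ^ p ^ f ≠ (l ^ p ^ f)⁻¹ := fun h => hll ((iterateFrobenius_inj (AlgebraicClosure F) p f) (by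
      simpa [iterateFrobenius_def, inv_pow] using h))
    have hne : l + l⁻¹ ≠ l ^ p ^ f + (l ^ p ^ f)⁻¹ := by rw [el, hm, ← hyz]; exact Ne.symm hyF
    have hcount : ∀ r, Multiset.count r
        (↑[l, l⁻¹, l ^ p ^ f, (l ^ p ^ f)⁻¹] : Multiset (AlgebraicClosure F)) ≤ p ^ 0 := by
      refine fun r => Multiset.nodup_iff_count_le_one.1 (Multiset.coe_nodup.2 ?_) r
      simp only [List.nodup_cons, List.mem_cons, List.not_mem_nil, or_false, not_false_eq_true, List.nodup_nil,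
        and_true, not_or]
      refine ⟨⟨hll, ?_, ?_⟩, ⟨?_, ?_⟩, hmm⟩ <;> intro h <;> apply hne
      · rw [← h]
      · rw [show l ^ p ^ f = l⁻¹ by conv_rhs => rw [h, inv_inv], inv_inv, add_comm]
      · rw [← h, inv_inv, add_comm]
      · rw [← inv_injective h]
    have hQ : ((p ^ f) ^ 2) = p ^ (f * 2) := (pow_mul p f 2).symm
    have hd := halfOf_dvd (f := f) (Fact.out : p.Prime)
    have hQ4 : 4 ≤ (p ^ f) ^ 2 := by nlinarith
    have fin : ∀ n, halfOf p ∣ n → 2 ≤ n → l ^ n = 1 → M ^ (n / halfOf p) = 1 ∨ M ^ (n / halfOf p) = -1 := by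
      intro n hn hn0 hl1
      have hkpos : 0 < n / halfOf p := by
        rcases halfOf_cases (Fact.out : p.Prime) with ⟨-, h⟩ | ⟨-, h⟩ <;> rw [h] <;> omega
      obtain ⟨c, hc, hc'⟩ : ∃ c : F, l ^ (n / halfOf p) = ι c ∧ (c = 1 ∨ c = -1) := by
        rcases pm_of_dvd hn hl1 with h | h
        · exact ⟨1, by rw [h, map_one], Or.inl rfl⟩
        · exact ⟨-1, by rw [h, map_neg, map_one], Or.inr rfl⟩
      have := key l (l ^ p ^ f) 0 (n / halfOf p) c hl (pow_ne_zero _ hl) el hm hkpos hc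
        (by rw [← pow_mul, mul_comm, pow_mul, hc, hfix]) hc' hcount
      simpa using this
    have hy2' : (l + l⁻¹) ^ p ^ (f * 2) = l + l⁻¹ := by rw [el, hy2]
    rcases pow_eq_one_of_fixed p hl hy2' with h | h <;> rw [← hQ] at h
    · exact ⟨((p ^ f) ^ 2 - 1) / halfOf p, by simp [specList], fin _ hd.2 (by omega) h⟩
    · exact ⟨((p ^ f) ^ 2 + 1) / halfOf p, by simp [specList], fin _ hd.1 (by omega) h⟩
  -- both pair sums are fixed
  obtain ⟨m, hm, em⟩ := exists_pair (ι a - y)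
  have hzF : (ι a - y) ^ p ^ f = ι a - y := by rw [sub_pow_char_pow, hfix, hyF]
  have hl' := pow_eq_one_of_fixed p hl (k := f) (by rw [el, hyF])
  have hm' := pow_eq_one_of_fixed p hm (k := f) (by rw [em, hzF])
  have hone : ι (1 : F) = 1 := map_one ι
  have hsep : ∀ u v : AlgebraicClosure F, u + u⁻¹ ≠ v + v⁻¹ → u ≠ v ∧ u ≠ v⁻¹ ∧ u⁻¹ ≠ v ∧ u⁻¹ ≠ v⁻¹ :=
    fun u v h => ⟨fun e => h (by rw [e]), fun e => h (by rw [e, inv_inv, add_comm]),
      fun e => h (by rw [← e, inv_inv, add_comm]), fun e => h (by rw [inv_injective e])⟩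
  have hlist : ∀ k, (k = p ^ f - 1 ∨ k = p ^ f + 1) → k * p ^ 1 ∈ specList p (p ^ f) := by
    rintro k (rfl | rfl) <;> simp [specList, mul_comm]
  have hk0 : ∀ k, (k = p ^ f - 1 ∨ k = p ^ f + 1) → 0 < k := by rintro k (rfl | rfl) <;> omega
  have hp1 : ∀ n : ℕ, n ≤ 2 → n ≤ p ^ 1 := fun n h => by rw [pow_one]; omega
  have two : ∀ u v : AlgebraicClosure F, u ≠ 0 → v ≠ 0 → u + u⁻¹ = y → v + v⁻¹ = ι a - y →
      (∀ r, Multiset.count r (↑[u, u⁻¹, v, v⁻¹] : Multiset (AlgebraicClosure F)) ≤ 2) →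
      (∃ k, (k = p ^ f - 1 ∨ k = p ^ f + 1) ∧ u ^ k = 1 ∧ v ^ k = 1) →
      ∃ n ∈ specList p (p ^ f), M ^ n = 1 ∨ M ^ n = -1 := by
    rintro u v hu hv eu ev hcnt ⟨k, hk, h1, h2⟩
    exact ⟨k * p ^ 1, hlist k hk, key u v 1 k 1 hu hv eu ev (hk0 k hk) (by rw [h1, hone]) (by rw [h2, hone])
      (Or.inl rfl) fun r => hp1 _ (hcnt r)⟩
  by_cases hyz : y = ι a - y
  · by_cases hl2 : l = 1 ∨ l = -1
    · set e := if p ≤ 3 then 2 else 1 with he
      have hpe : 4 ≤ p ^ e := by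
        rw [he]; split_ifs
        · nlinarith
        · rw [pow_one]; omega
      have hpeq : p ^ e = if p ≤ 3 then p ^ 2 else p := by rw [he]; split_ifs <;> simp
      obtain ⟨c, hc, hc'⟩ : ∃ c : F, l = ι c ∧ (c = 1 ∨ c = -1) := by
        rcases hl2 with h | h
        · exact ⟨1, by rw [h, map_one], Or.inl rfl⟩
        · exact ⟨-1, by rw [h, map_neg, map_one], Or.inr rfl⟩
      have := key l l e 1 c hl hl el (by rw [el]; exact hyz) one_pos (by rw [pow_one, hc]) (by rw [pow_one, hc]) hc'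
        fun r => (Multiset.count_le_card r _).trans (by simpa using hpe)
      exact ⟨p ^ e, by simp [specList, ← hpeq], by simpa using this⟩
    · refine two l l hl hl el (by rw [el]; exact hyz) (count_le_two l l (Or.inl ⟨rfl, fun h => hl2 ?_⟩)) ?_
      · exact sq_eq_one_iff.1 (by rw [pow_two]; nth_rewrite 2 [h]; exact mul_inv_cancel₀ hl)
      · rcases hl' with h | h
        · exact ⟨_, Or.inl rfl, h, h⟩
        · exact ⟨_, Or.inr rfl, h, h⟩
  · have hs := hsep l m (by rw [el, em]; exact hyz)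
    have hcnt := count_le_two l m (Or.inr hs)
    by_cases hl2 : l = 1 ∨ l = -1
    · refine two l m hl hm el em hcnt ?_
      have := pm_sq_even (p := p) (f := f) hl2
      rcases hm' with h | h
      · exact ⟨_, Or.inl rfl, this.1, h⟩
      · exact ⟨_, Or.inr rfl, this.2, h⟩
    by_cases hm2 : m = 1 ∨ m = -1
    · refine two l m hl hm el em hcnt ?_
      have := pm_sq_even (p := p) (f := f) hm2
      rcases hl' with h | h
      · exact ⟨_, Or.inl rfl, h, this.1⟩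
      · exact ⟨_, Or.inr rfl, h, this.2⟩
    have hnd : ∀ r, Multiset.count r (↑[l, l⁻¹, m, m⁻¹] : Multiset (AlgebraicClosure F)) ≤ p ^ 0 := by
      refine fun r => Multiset.nodup_iff_count_le_one.1 (Multiset.coe_nodup.2 ?_) r
      simp only [List.nodup_cons, List.mem_cons, List.not_mem_nil, or_false, not_false_eq_true, List.nodup_nil,
        and_true, not_or]
      exact ⟨⟨fun h => hl2 (sq_eq_one_iff.1 (by rw [pow_two]; nth_rewrite 2 [h]; exact mul_inv_cancel₀ hl)),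
        hs.1, hs.2.1⟩, ⟨hs.2.2.1, hs.2.2.2⟩,
        fun h => hm2 (sq_eq_one_iff.1 (by rw [pow_two]; nth_rewrite 2 [h]; exact mul_inv_cancel₀ hm))⟩
    have hd := dvd_half_sub_one (f := f) (Fact.out : p.Prime)
    have hone' : ∀ u : AlgebraicClosure F, (u ^ (p ^ f - 1) = 1 ∨ u ^ (p ^ f + 1) = 1) →
        u ^ (((p ^ f) ^ 2 - 1) / halfOf p) = 1 := by
      rintro u (h | h)
      · obtain ⟨j, hj⟩ := hd.1; rw [hj, pow_mul, h, one_pow]
      · obtain ⟨j, hj⟩ := hd.2; rw [hj, pow_mul, h, one_pow]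
    have hQ4 : 4 ≤ (p ^ f) ^ 2 := by nlinarith
    have hk : 0 < ((p ^ f) ^ 2 - 1) / halfOf p := by
      rcases halfOf_cases (Fact.out : p.Prime) with ⟨-, h⟩ | ⟨-, h⟩ <;> rw [h] <;> omega
    have := key l m 0 _ 1 hl hm el em hk (by rw [hone' l hl', hone]) (by rw [hone' m hm', hone]) (Or.inl rfl) hnd
    exact ⟨((p ^ f) ^ 2 - 1) / halfOf p, by simp [specList], by simpa using this⟩

end CfsgLib.Char.SpFourSpec
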